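import Cfsg.Agent.Lib.Lie.Chev.Tw.Sub.Setting
import Cfsg.Agent.Lib.Lie.Chev.Tw.Tools

/-!
# The positive unipotent elements of an overgroup of the subfield points of a twisted group

By downward induction on the height: the commutator with a fixed orbit element of height one lies
higher, so its coordinates are fixed and give linear conditions on the defects of the coordinates.
The orbit where these conditions are empty is handled by the hypothesis on its orbit elements.
-/

set_option autoImplicit false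
set_option linter.unusedSectionVars false

namespace CfsgLib.Lie.Chev.TwSub

open Cfsg.Lie
open scoped MatrixGroups

variable {D : ChevalleyDatum}

/-- the orbit of a root under a permutation of order at most three -/
def orbOf (pf : Fin D.nroots → Fin D.nroots) (r : Fin D.nroots) : List (Fin D.nroots) :=
  [r, pf r, pf (pf r)].dedup

/-- the coefficient at `q` of the commutator of `r` with the sum of a list of roots -/
def ccL (D : ChevalleyDatum) (S : List (Fin D.nroots)) (r q : Fin D.nroots) : ℤ :=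
  (S.map fun s => ccB D r.val s.val q.val).sum

/-- the sign of a flag -/
def sgI (b : Bool) : ℤ := if b then -1 else 1

/-- a root whose defect is killed by one commutator equation -/
def WitOk (C : Full D) (pf : Fin D.nroots → Fin D.nroots) (ef : Fin D.nroots → Bool)
    (w : Fin D.nroots × List (Fin D.nroots) × Fin D.nroots × Bool) : Prop :=
  D.IsPosRoot w.1.val ∧ D.IsPosRoot w.2.2.1.val ∧ hgt C.G w.2.2.1 = hgt C.G w.1 + 1 ∧
    (∀ r : Fin D.nroots, D.IsPosRoot r.val → hgt C.G r = hgt C.G w.1 →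
      r = w.1 ∨ (w.2.2.2 = true ∧ r = pf w.1) ∨ (pf r = r ∧ ef r = false) ∨ ccL D w.2.1 r w.2.2.1 = 0) ∧
    (ccL D w.2.1 w.1 w.2.2.1).natAbs = 1 ∧
    (w.2.2.2 = true → pf w.1 ≠ w.1 ∧
      ccL D w.2.1 w.1 w.2.2.1 * (ccL D w.2.1 (pf w.1) w.2.2.1 * sgI (ef w.1)) = 1)

/-- the checks on the positive roots of a twisted group -/
structure UnipOk (C : Full D) (pf : Fin D.nroots → Fin D.nroots) (ef : Fin D.nroots → Bool)
    (Ss : List (List (Fin D.nroots)))
    (wit : List (Fin D.nroots × List (Fin D.nroots) × Fin D.nroots × Bool)) (top : Fin D.nroots) (M : ℕ) :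
    Prop where
  perm : ∀ r : Fin D.nroots, D.IsPosRoot r.val → ((orbOf pf r).map pf).Perm (orbOf pf r)
  comm : ∀ r : Fin D.nroots, D.IsPosRoot r.val →
    (orbOf pf r).Pairwise fun a b => D.commTerms a.val b.val = []
  bound : ∀ r : Fin D.nroots, D.IsPosRoot r.val → hgt C.G r ≤ M
  S_ok : ∀ S ∈ Ss, (S.map pf).Perm S ∧ S.Pairwise (fun a b => a ≠ b ∧ D.commTerms a.val b.val = []) ∧
    ∀ s ∈ S, D.IsPosRoot s.val ∧ hgt C.G s = 1 ∧ ef s = false
  wit_ok : ∀ w ∈ wit, WitOk C pf ef w ∧ w.2.1 ∈ Ss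
  top_pos : D.IsPosRoot top.val
  top_all : ∀ r : Fin D.nroots, D.IsPosRoot r.val → hgt C.G r = hgt C.G top → r ∈ orbOf pf top
  top_high : ∀ r : Fin D.nroots, D.IsPosRoot r.val → hgt C.G top < hgt C.G r → pf r = r ∧ ef r = false
  cover : ∀ r : Fin D.nroots, D.IsPosRoot r.val → hgt C.G r < hgt C.G top →
    (pf r = r ∧ ef r = false) ∨ ∃ w ∈ wit, r ∈ orbOf pf w.1

variable {K : Type*} [Field K] {C : Full D}

/-- the element of an orbit with given parameters -/
noncomputable def orbX (G : Good D) (o : List (Fin D.nroots)) (c : Fin D.nroots → K) : GL D.Idx K :=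
  (o.map fun s => G.xu s (c s)).prod

theorem coord_orbX {h : ℤ} (hh : 1 ≤ h) {r : Fin D.nroots} (hr : D.IsPosRoot r.val) (hrh : hgt C.G r = h)
    (c : Fin D.nroots → K) : ∀ o : List (Fin D.nroots), o.Nodup →
      (∀ s ∈ o, D.IsPosRoot s.val ∧ h ≤ hgt C.G s) →
      orbX C.G o c ∈ (Uh C.G h : Subgroup (GL D.Idx K)) ∧
        coord C.G r (orbX C.G o c) = if r ∈ o then c r else 0 := by
  intro o
  induction o with
  | nil => intro _ _; simp [orbX, coord_one]
  | cons s o ih =>
    intro hnd ho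
    rw [List.nodup_cons] at hnd
    obtain ⟨hm, hc⟩ := ih hnd.2 fun x hx => ho x (List.mem_cons_of_mem _ hx)
    obtain ⟨hsp, hsh⟩ := ho s List.mem_cons_self
    have hs := xu_mem_Uh C.G hsp hsh (c s)
    have e : orbX C.G (s :: o) c = C.G.xu s (c s) * orbX C.G o c := by simp [orbX]
    rw [e]
    refine ⟨mul_mem hs hm, ?_⟩
    rw [coord_mul C.G hh (by omega) hs hm, hc, coord_xu C.G hr hsp (by omega)]
    by_cases e : s = r
    · subst e; simp [hnd.1]
    · simp [e, Ne.symm e]

theorem orbX_mem_Uh {h : ℤ} (c : Fin D.nroots → K) {o : List (Fin D.nroots)}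
    (ho : ∀ s ∈ o, D.IsPosRoot s.val ∧ h ≤ hgt C.G s) : orbX C.G o c ∈ (Uh C.G h : Subgroup (GL D.Idx K)) :=
  list_prod_mem fun x hx => by
    obtain ⟨s, hs, rfl⟩ := List.mem_map.1 hx
    exact xu_mem_Uh C.G (ho s hs).1 (ho s hs).2 _

/-- the coordinates of a commutator with a product of root elements of height one -/
theorem coord_comm_list (hl : chkLaced D = true) {h : ℤ} (hh : 1 ≤ h) {g : GL D.Idx K}
    (hg : g ∈ (Uh C.G h : Subgroup (GL D.Idx K))) {q : Fin D.nroots} (hq : D.IsPosRoot q.val)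
    (hqh : hgt C.G q = h + 1) :
    ∀ S : List (Fin D.nroots), (∀ s ∈ S, D.IsPosRoot s.val ∧ hgt C.G s = 1) →
      (orbX C.G S (fun _ => (1 : K)))⁻¹ * g⁻¹ * orbX C.G S (fun _ => (1 : K)) * g ∈
          (Uh C.G (h + 1) : Subgroup (GL D.Idx K)) ∧
      coord C.G q ((orbX C.G S (fun _ => (1 : K)))⁻¹ * g⁻¹ * orbX C.G S (fun _ => (1 : K)) * g) =
        ∑ r : Fin D.nroots, if D.IsPosRoot r.val ∧ hgt C.G r = h then
          (ccL D S r q : K) * coord C.G r g else 0 := by
  intro S
  induction S with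
  | nil => intro _; simp [orbX, ccL, coord_one]
  | cons s S ih =>
    intro hS
    obtain ⟨hm, hc⟩ := ih fun x hx => hS x (List.mem_cons_of_mem _ hx)
    obtain ⟨hsp, hs1⟩ := hS s List.mem_cons_self
    obtain ⟨h1, h2⟩ := coord_comm C hl hh hg hsp hs1 hq hqh
    set x := C.G.xu s (1 : K)
    set y := orbX C.G S (fun _ => (1 : K))
    have hyU : y ∈ D.posUnipotent K := list_prod_mem fun z hz => by
      obtain ⟨a, ha, rfl⟩ := List.mem_map.1 hz
      exact C.G.xu_mem_U (hS a (List.mem_cons_of_mem _ ha)).1 _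
    have e : orbX C.G (s :: S) (fun _ => (1 : K)) = x * y := by simp [orbX, x, y]
    rw [e, show (x * y)⁻¹ * g⁻¹ * (x * y) * g = y⁻¹ * (x⁻¹ * g⁻¹ * x * g) * y⁻¹⁻¹ * (y⁻¹ * g⁻¹ * y * g) by
      group]
    have hcj := Uh_conj C (inv_mem hyU) h1
    refine ⟨mul_mem hcj hm, ?_⟩
    rw [coord_mul C.G (by omega) (by omega) hcj hm, coord_conj C (by omega) hq hqh (inv_mem hyU) h1, h2, hc,
      ← Finset.sum_add_distrib]
    refine Finset.sum_congr rfl fun r _ => ?_
    split_ifs with hr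
    · simp only [ccL, List.map_cons, List.sum_cons]; push_cast; ring
    · rw [add_zero]

variable {T : Twist C.G K} {ι : Type} {O : Orbits C.G T.p ι} {θ : K ≃+* K} {H : Subgroup (GL D.Idx K)}

section setting

variable (S : Setting O θ)

include S

theorem Setting.mem_orb {pf : Fin D.nroots → Fin D.nroots} (hpf : ∀ r, T.p r = pf r) {r s : Fin D.nroots}
    (hs : s ∈ orbOf pf r) (hr : D.IsPosRoot r.val) :
    D.IsPosRoot s.val ∧ hgt C.G s = hgt C.G r := by
  simp only [orbOf, List.mem_dedup, List.mem_cons, List.not_mem_nil, or_false, ← hpf] at hs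
  rcases hs with rfl | rfl | rfl
  · exact ⟨hr, rfl⟩
  · exact ⟨(T.p_pos r).2 hr, S.hgt_p r⟩
  · exact ⟨(T.p_pos _).2 ((T.p_pos r).2 hr), (S.hgt_p _).trans (S.hgt_p r)⟩

theorem Setting.orbX_fix {pf : Fin D.nroots → Fin D.nroots} (hpf : ∀ r, T.p r = pf r)
    {o : List (Fin D.nroots)} (hperm : (o.map pf).Perm o)
    (hcomm : o.Pairwise fun a b => a ≠ b ∧ D.commTerms a.val b.val = [])
    (hpos : ∀ s ∈ o, D.IsPosRoot s.val) {c : Fin D.nroots → K}
    (hc : ∀ s ∈ o, c (T.p s) = T.eps s * θ (c s)) : orbX C.G o c ∈ T.Fix := by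
  have hC : (o.map fun s => C.G.xu s (c s)).Pairwise Commute := by
    rw [List.pairwise_map]
    refine hcomm.imp_of_mem fun {a b} ha hb hab => ?_
    have hcm := C.commAt a b (Ne.symm hab.1) (C.pos_ne_negr (hpos a ha) (hpos b hb)) (c a) (c b)
    unfold CommAt cwR at hcm
    rw [hab.2, List.map_nil, wordR_nil, mul_one] at hcm
    have h : Commute (C.G.xu b (c b)) (C.G.xu a (c a)) := Units.ext hcm
    exact h.symm
  have h := T.mem_Fix_list (o.map fun s => (s, c s)) (by
    have e : (o.map fun s => C.G.xu (T.p s) (T.eps s * T.σ s (c s))) =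
        (o.map pf).map fun s => C.G.xu s (c s) := by
      rw [List.map_map]
      refine List.map_congr_left fun s hs => ?_
      rw [Function.comp_apply, ← hpf, hc s hs, S.σ_eq]
    simp only [List.map_map, Function.comp_def] at *
    rw [e]
    simpa only [List.map_map, Function.comp_def] using
      ((List.Perm.map (fun s => C.G.xu s (c s)) hperm).symm.prod_eq' hC).symm)
  simpa [orbX, List.map_map, Function.comp_def] using h

theorem Setting.coord_φ {h : ℤ} (hh : 1 ≤ h) {g : GL D.Idx K} (hg : g ∈ (Uh C.G h : Subgroup (GL D.Idx K))) :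
    ∀ hgG : g ∈ D.group K, (T.φ ⟨g, hgG⟩ : GL D.Idx K) ∈ (Uh C.G h : Subgroup (GL D.Idx K)) ∧
      ∀ r : Fin D.nroots, D.IsPosRoot r.val → hgt C.G r = h →
        coord C.G (T.p r) (T.φ ⟨g, hgG⟩ : GL D.Idx K) = T.eps r * θ (coord C.G r g) := by
  have hG : ∀ x ∈ (Uh C.G h : Subgroup (GL D.Idx K)), x ∈ D.group K := fun x hx =>
    C.G.posUnipotent_le_group (Uh_le_U C.G h hx)
  induction hg using Subgroup.closure_induction with
  | one =>
    intro hgG
    rw [show (⟨1, hgG⟩ : ↥(D.group K)) = 1 from rfl, map_one]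
    exact ⟨one_mem _, fun r _ _ => by simp [coord_one]⟩
  | mul a b ha hb iha ihb =>
    intro hgG
    obtain ⟨a1, a2⟩ := iha (hG a ha)
    obtain ⟨b1, b2⟩ := ihb (hG b hb)
    rw [show (⟨a * b, hgG⟩ : ↥(D.group K)) = ⟨a, hG a ha⟩ * ⟨b, hG b hb⟩ from rfl, map_mul, Subgroup.coe_mul]
    refine ⟨mul_mem a1 b1, fun r hr hrh => ?_⟩
    rw [coord_mul C.G hh (by rw [S.hgt_p]; omega) a1 b1, coord_mul C.G hh (by omega) ha hb, a2 r hr hrh,
      b2 r hr hrh, map_add, mul_add]
  | inv a ha iha =>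
    intro hgG
    obtain ⟨a1, a2⟩ := iha (hG a ha)
    rw [show (⟨a⁻¹, hgG⟩ : ↥(D.group K)) = (⟨a, hG a ha⟩ : ↥(D.group K))⁻¹ from rfl, map_inv, Subgroup.coe_inv]
    refine ⟨inv_mem a1, fun r hr hrh => ?_⟩
    rw [coord_inv C.G hh (by rw [S.hgt_p]; omega) a1, coord_inv C.G hh (by omega) ha, a2 r hr hrh, map_neg,
      mul_neg]
  | mem x hx =>
    intro hgG
    obtain ⟨s, t, ⟨hsp, hsh⟩, rfl⟩ := hx
    rw [T.φ_xu]
    have hp := (T.p_pos s).2 hsp
    refine ⟨xu_mem_Uh C.G hp (by rw [S.hgt_p]; exact hsh) _, fun r hr hrh => ?_⟩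
    rw [coord_xu C.G ((T.p_pos r).2 hr) hp (by rw [S.hgt_p, S.hgt_p]; omega),
      coord_xu C.G hr hsp (by omega), S.σ_eq]
    by_cases e : s = r
    · subst e; simp
    · rw [if_neg (T.p.injective.ne e), if_neg e, map_zero, mul_zero]

/-- the coordinates of a fixed element along an orbit -/
theorem Setting.fix_coord {h : ℤ} (hh : 1 ≤ h) {g : GL D.Idx K} (hg : g ∈ (Uh C.G h : Subgroup (GL D.Idx K)))
    (hgF : g ∈ T.Fix) {r : Fin D.nroots} (hr : D.IsPosRoot r.val) (hrh : hgt C.G r = h) :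
    coord C.G (T.p r) g = T.eps r * θ (coord C.G r g) := by
  have h2 := (S.coord_φ hh hg (T.Fix_le hgF)).2 r hr hrh
  rwa [T.fix_eq hgF] at h2

variable {pf : Fin D.nroots → Fin D.nroots} (hpf : ∀ r, T.p r = pf r)
  (hperm : ∀ r : Fin D.nroots, D.IsPosRoot r.val → ((orbOf pf r).map pf).Perm (orbOf pf r))
  (hcomm : ∀ r : Fin D.nroots, D.IsPosRoot r.val →
    (orbOf pf r).Pairwise fun a b => D.commTerms a.val b.val = [])

include hpf hperm hcomm

theorem Setting.orb_elt {h : ℤ} (hh : 1 ≤ h) {u : GL D.Idx K} (hu : u ∈ (Uh C.G h : Subgroup (GL D.Idx K)))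
    (huF : u ∈ T.Fix) {r : Fin D.nroots} (hr : D.IsPosRoot r.val) (hrh : hgt C.G r = h) :
    orbX C.G (orbOf pf r) (fun s => coord C.G s u) ∈ T.Fix := by
  refine S.orbX_fix hpf (hperm r hr) ((List.nodup_dedup _).and (hcomm r hr)) (fun s hs => (S.mem_orb hpf hs hr).1)
    fun s hs => ?_
  obtain ⟨h1, h2⟩ := S.mem_orb hpf hs hr
  exact S.fix_coord hh hu huF h1 (h2.trans hrh)

/-- an element with fixed lowest coordinates is fixed once the higher ones are -/
theorem Setting.peel (O' : TOver T θ H) {h : ℤ} (hh : 1 ≤ h)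
    (hnext : ∀ v ∈ H, v ∈ (Uh C.G (h + 1) : Subgroup (GL D.Idx K)) → fmap D θ.toRingHom v = v) :
    ∀ u ∈ H, u ∈ (Uh C.G h : Subgroup (GL D.Idx K)) →
      (∀ r : Fin D.nroots, D.IsPosRoot r.val → hgt C.G r = h → θ (coord C.G r u) = coord C.G r u) →
      fmap D θ.toRingHom u = u := by
  classical
  suffices key : ∀ (n : ℕ), ∀ u ∈ H, u ∈ (Uh C.G h : Subgroup (GL D.Idx K)) →
      (∀ r : Fin D.nroots, D.IsPosRoot r.val → hgt C.G r = h → θ (coord C.G r u) = coord C.G r u) →
      (Finset.univ.filter fun r : Fin D.nroots =>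
        D.IsPosRoot r.val ∧ hgt C.G r = h ∧ coord C.G r u ≠ 0).card ≤ n →
      fmap D θ.toRingHom u = u from fun u huH hu hδ => key _ u huH hu hδ le_rfl
  intro n
  induction n with
  | zero =>
    intro u huH hu hδ hn
    refine hnext u huH (mem_Uh_succ C hh hu fun r hr hrh => ?_)
    by_contra hne
    rw [Nat.le_zero, Finset.card_eq_zero] at hn
    exact Finset.notMem_empty r (hn ▸ Finset.mem_filter.2 ⟨Finset.mem_univ r, hr, hrh, hne⟩)
  | succ n ih =>
    intro u huH hu hδ hn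
    by_cases hz : ∀ r : Fin D.nroots, D.IsPosRoot r.val → hgt C.G r = h → coord C.G r u = 0
    · exact hnext u huH (mem_Uh_succ C hh hu hz)
    push Not at hz
    obtain ⟨r, hr, hrh, hne⟩ := hz
    set z := orbX C.G (orbOf pf r) (fun s => coord C.G s u)
    have hmem : ∀ s ∈ orbOf pf r, D.IsPosRoot s.val ∧ hgt C.G s = h := fun s hs =>
      ⟨(S.mem_orb hpf hs hr).1, (S.mem_orb hpf hs hr).2.trans hrh⟩
    have hzU : z ∈ (Uh C.G h : Subgroup (GL D.Idx K)) :=
      orbX_mem_Uh _ fun s hs => ⟨(hmem s hs).1, (hmem s hs).2.ge⟩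
    have hσz : fmap D θ.toRingHom z = z := by
      simp only [z, orbX, map_list_prod, List.map_map]
      refine congrArg List.prod (List.map_congr_left fun s hs => ?_)
      rw [Function.comp_apply, C.G.fmap_xu]
      exact congrArg _ (hδ s (hmem s hs).1 (hmem s hs).2)
    have hzH := O'.fix_le z (S.orb_elt hpf hperm hcomm hh hu (O'.le huH) hr hrh) hσz
    have hco : ∀ s : Fin D.nroots, D.IsPosRoot s.val → hgt C.G s = h →
        coord C.G s (z⁻¹ * u) = if s ∈ orbOf pf r then 0 else coord C.G s u := by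
      intro s hs hsh
      have hz : coord C.G s z = if s ∈ orbOf pf r then coord C.G s u else 0 :=
        (coord_orbX hh hs hsh _ (orbOf pf r) (List.nodup_dedup _) fun x hx => ⟨(hmem x hx).1, (hmem x hx).2.ge⟩).2
      rw [coord_mul C.G hh (by omega) (inv_mem hzU) hu, coord_inv C.G hh (by omega) hzU, hz]
      split_ifs <;> simp
    have h' := ih (z⁻¹ * u) (mul_mem (inv_mem hzH) huH) (mul_mem (inv_mem hzU) hu) (fun s hs hsh => by
      rw [hco s hs hsh]; split_ifs <;> simp [hδ s hs hsh]) (by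
      refine Nat.lt_succ_iff.1 (lt_of_lt_of_le (Finset.card_lt_card ⟨fun s hs => ?_, fun hsub => ?_⟩) hn)
      · simp only [Finset.mem_filter, Finset.mem_univ, true_and] at hs ⊢
        obtain ⟨h1, h2, h3⟩ := hs
        rw [hco s h1 h2] at h3
        split_ifs at h3 with h4
        · exact absurd rfl h3
        · exact ⟨h1, h2, h3⟩
      · have := hsub (Finset.mem_filter.2 ⟨Finset.mem_univ r, hr, hrh, hne⟩)
        simp only [Finset.mem_filter, hco r hr hrh] at this
        simp [orbOf] at this)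
    calc fmap D θ.toRingHom u = fmap D θ.toRingHom z * fmap D θ.toRingHom (z⁻¹ * u) := by
          rw [← map_mul, mul_inv_cancel_left]
      _ = u := by rw [hσz, h', mul_inv_cancel_left]

/-- the descent -/
theorem Setting.descend (O' : TOver T θ H) {M : ℕ}
    (hM : ∀ r : Fin D.nroots, D.IsPosRoot r.val → hgt C.G r ≤ M) {h₀ : ℤ}
    (hδ : ∀ h : ℤ, 1 ≤ h → h₀ ≤ h → ∀ u ∈ H, u ∈ (Uh C.G h : Subgroup (GL D.Idx K)) →
      (∀ v ∈ H, v ∈ (Uh C.G (h + 1) : Subgroup (GL D.Idx K)) → fmap D θ.toRingHom v = v) →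
      ∀ r : Fin D.nroots, D.IsPosRoot r.val → hgt C.G r = h → θ (coord C.G r u) = coord C.G r u) :
    ∀ (n : ℕ) (h : ℤ), 1 ≤ h → h₀ ≤ h → (M : ℤ) + 1 ≤ h + n →
      ∀ u ∈ H, u ∈ (Uh C.G h : Subgroup (GL D.Idx K)) → fmap D θ.toRingHom u = u := by
  intro n
  induction n with
  | zero =>
    intro h _ _ hM' u _ hu
    have : (Uh C.G h : Subgroup (GL D.Idx K)) ≤ ⊥ := by
      rw [Uh, ClP, Subgroup.closure_le]
      rintro x ⟨r, t, ⟨hr, hrh⟩, -⟩
      have := hM r hr
      omega
    rw [Subgroup.mem_bot.1 (this hu), map_one]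
  | succ n ih =>
    intro h hh hh0 hM' u huH hu
    have hnext := ih (h + 1) (by omega) (by omega) (by push_cast at hM'; omega)
    exact S.peel hpf hperm hcomm O' hh hnext u huH hu (hδ h hh hh0 u huH hu hnext)

end setting

/-- the positive unipotent elements of the overgroup are fixed -/
theorem Setting.unip_fixed (S : Setting O θ) {pf : Fin D.nroots → Fin D.nroots} {ef : Fin D.nroots → Bool}
    {Ss : List (List (Fin D.nroots))} {wit : List (Fin D.nroots × List (Fin D.nroots) × Fin D.nroots × Bool)}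
    {top : Fin D.nroots} {M : ℕ} (hok : UnipOk C pf ef Ss wit top M) (hl : chkLaced D = true)
    (hpf : ∀ r, T.p r = pf r) (hef : ∀ r, T.eps r = (sgI (ef r) : K))
    (hthree : (∃ w ∈ wit, w.2.2.2 = true) → ∀ t : K, θ (θ (θ t)) = t) (O' : TOver T θ H)
    (hrat : ∀ c : Fin D.nroots → K, (∀ s ∈ orbOf pf top, c (T.p s) = T.eps s * θ (c s)) →
      orbX C.G (orbOf pf top) c ∈ H → θ (c top) = c top)
    {u : GL D.Idx K} (hu : u ∈ D.posUnipotent K) (huH : u ∈ H) : fmap D θ.toRingHom u = u := by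
  classical
  have heps : ∀ r, θ (T.eps r) = T.eps r := fun r => by rw [hef, map_intCast]
  have hplain : ∀ (h : ℤ), 1 ≤ h → ∀ v ∈ T.Fix, v ∈ (Uh C.G h : Subgroup (GL D.Idx K)) →
      ∀ r : Fin D.nroots, D.IsPosRoot r.val → hgt C.G r = h → pf r = r → ef r = false →
      θ (coord C.G r v) = coord C.G r v := by
    intro h hh v hvF hv r hr hrh h1 h2
    have := S.fix_coord hh hv hvF hr hrh
    rw [hpf, h1, hef, h2] at this
    simpa [sgI] using this.symm
  have horbit : ∀ (h : ℤ), 1 ≤ h → ∀ v ∈ T.Fix, v ∈ (Uh C.G h : Subgroup (GL D.Idx K)) →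
      ∀ r : Fin D.nroots, D.IsPosRoot r.val → hgt C.G r = h → θ (coord C.G r v) = coord C.G r v →
      ∀ s ∈ orbOf pf r, θ (coord C.G s v) = coord C.G s v := by
    intro h hh v hvF hv r hr hrh h0
    have step : ∀ a : Fin D.nroots, D.IsPosRoot a.val → hgt C.G a = h → θ (coord C.G a v) = coord C.G a v →
        θ (coord C.G (T.p a) v) = coord C.G (T.p a) v := fun a ha hah ha0 => by
      rw [S.fix_coord hh hv hvF ha hah, map_mul, heps, ha0]
      exact congrArg _ ha0
    intro s hs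
    simp only [orbOf, List.mem_dedup, List.mem_cons, List.not_mem_nil, or_false, ← hpf] at hs
    rcases hs with rfl | rfl | rfl
    · exact h0
    · exact step r hr hrh h0
    · exact step _ ((T.p_pos r).2 hr) ((S.hgt_p r).trans hrh) (step r hr hrh h0)
  have hhigh : ∀ (h : ℤ), 1 ≤ h → hgt C.G top < h → ∀ v ∈ T.Fix,
      v ∈ (Uh C.G h : Subgroup (GL D.Idx K)) → fmap D θ.toRingHom v = v := by
    intro h hh hht
    refine S.descend hpf hok.perm hok.comm ⟨le_rfl, fun g hg _ => hg⟩ hok.bound (h₀ := h)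
      (fun k hk1 hk v hvF hv _ r hr hrh => ?_) (M + 1) h hh le_rfl (by push_cast; omega)
    obtain ⟨h1, h2⟩ := hok.top_high r hr (by omega)
    exact hplain k hk1 v hvF hv r hr hrh h1 h2
  refine S.descend hpf hok.perm hok.comm O' hok.bound (h₀ := 1) (fun h hh _ v hvH hv hnext r hr hrh => ?_)
    (M + 1) 1 le_rfl le_rfl (by push_cast; omega) u huH (U_le_Uh_one C.G hu)
  have hvF := O'.le hvH
  rcases lt_trichotomy (hgt C.G r) (hgt C.G top) with hlt | heq | hgt'
  · rcases hok.cover r hr hlt with ⟨h1, h2⟩ | ⟨⟨r₀, Sy, q, pr⟩, hw, hrw⟩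
    · exact hplain h hh v hvF hv r hr hrh h1 h2
    obtain ⟨⟨hr₀, hq, hqh, hothers, hunit, hpair⟩, hSy⟩ := hok.wit_ok _ hw
    simp only at hr₀ hq hqh hothers hunit hpair hSy hrw
    have hr₀h : hgt C.G r₀ = h := ((S.mem_orb hpf hrw hr₀).2).symm.trans hrh
    refine horbit h hh v hvF hv r₀ hr₀ hr₀h ?_ r hrw
    obtain ⟨hS1, hS2, hS3⟩ := hok.S_ok Sy hSy
    have hyF : orbX C.G Sy (fun _ => (1 : K)) ∈ T.Fix :=
      S.orbX_fix hpf hS1 hS2 (fun s hs => (hS3 s hs).1) fun s hs => by
        rw [hef, (hS3 s hs).2.2]; simp [sgI]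
    have hσy : fmap D θ.toRingHom (orbX C.G Sy (fun _ => (1 : K))) = orbX C.G Sy (fun _ => (1 : K)) := by
      simp only [orbX, map_list_prod, List.map_map]
      exact congrArg List.prod (List.map_congr_left fun s _ => by simp [C.G.fmap_xu])
    have hyH := O'.fix_le _ hyF hσy
    obtain ⟨hm, hco⟩ := coord_comm_list hl hh hv hq (by omega) Sy
      fun s hs => ⟨(hS3 s hs).1, (hS3 s hs).2.1⟩
    have h0 := congrArg (coord C.G q)
      (hnext _ (mul_mem (mul_mem (mul_mem (inv_mem hyH) (inv_mem hvH)) hyH) hvH) hm)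
    rw [coord_fmap, hco] at h0
    set δ : Fin D.nroots → K := fun s => θ (coord C.G s v) - coord C.G s v with hδdef
    have hsum : ∑ s : Fin D.nroots, (if D.IsPosRoot s.val ∧ hgt C.G s = h then
        (ccL D Sy s q : K) * δ s else 0) = 0 := by
      rw [show θ.toRingHom (∑ s : Fin D.nroots, if D.IsPosRoot s.val ∧ hgt C.G s = h then
        (ccL D Sy s q : K) * coord C.G s v else 0) = ∑ s : Fin D.nroots,
          if D.IsPosRoot s.val ∧ hgt C.G s = h then (ccL D Sy s q : K) * θ (coord C.G s v) else 0 by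
        rw [map_sum]
        exact Finset.sum_congr rfl fun s _ => by split_ifs <;> simp] at h0
      rw [← sub_eq_zero, ← Finset.sum_sub_distrib] at h0
      refine Eq.trans (Finset.sum_congr rfl fun s _ => ?_) h0
      split_ifs <;> simp [hδdef, mul_sub]
    have hzero : ∀ s : Fin D.nroots, s ≠ r₀ → ¬ (pr = true ∧ s = pf r₀) →
        (if D.IsPosRoot s.val ∧ hgt C.G s = h then (ccL D Sy s q : K) * δ s else 0) = 0 := by
      intro s h1 h2
      split_ifs with hs
      · rcases hothers s hs.1 (hs.2.trans hr₀h.symm) with h | h | ⟨h3, h4⟩ | h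
        · exact absurd h h1
        · exact absurd h h2
        · rw [hδdef]; simp [hplain _ hh v hvF hv s hs.1 hs.2 h3 h4]
        · simp [h]
      · rfl
    have hu0 : (ccL D Sy r₀ q : K) ≠ 0 := by
      rcases Int.natAbs_eq_iff.1 hunit with e | e <;> simp [e]
    suffices hd : δ r₀ = 0 from sub_eq_zero.1 hd
    cases pr with
    | false =>
      rw [Finset.sum_eq_single r₀ (fun s _ hs => hzero s hs (by simp)) (by simp), if_pos ⟨hr₀, hr₀h⟩] at hsum
      exact (mul_eq_zero.1 hsum).resolve_left hu0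
    | true =>
      obtain ⟨hne, hprod⟩ := hpair rfl
      obtain ⟨hp1, hp2⟩ : D.IsPosRoot (pf r₀).val ∧ hgt C.G (pf r₀) = h :=
        hpf r₀ ▸ ⟨(T.p_pos r₀).2 hr₀, (S.hgt_p r₀).trans hr₀h⟩
      rw [Finset.sum_eq_add r₀ (pf r₀) (Ne.symm hne) (fun s _ hs => hzero s hs.1 (fun h => hs.2 h.2))
        (by simp) (by simp), if_pos ⟨hr₀, hr₀h⟩, if_pos ⟨hp1, hp2⟩] at hsum
      have e1 : δ (pf r₀) = T.eps r₀ * θ (δ r₀) := by
        simp only [hδdef, ← hpf, S.fix_coord hh hv hvF hr₀ hr₀h, map_mul, heps, map_sub]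
        ring
      have hcast := congrArg (fun z : ℤ => (z : K)) hprod
      push_cast at hcast
      rw [← hef] at hcast
      rw [e1] at hsum
      have hsq : (ccL D Sy r₀ q : K) * (ccL D Sy r₀ q : K) = 1 := by
        rcases Int.natAbs_eq_iff.1 hunit with e | e <;> simp [e]
      have h2 : θ (δ r₀) = -δ r₀ := by
        linear_combination (ccL D Sy r₀ q : K) * hsum - θ (δ r₀) * hcast - δ r₀ * hsq
      have h3 : δ r₀ + θ (δ r₀) + θ (θ (δ r₀)) = 0 := by
        simp only [hδdef, map_sub, hthree ⟨_, hw, rfl⟩]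
        ring
      rw [h2, map_neg, h2] at h3
      linear_combination h3
  · set z := orbX C.G (orbOf pf top) (fun s => coord C.G s v)
    have htop : hgt C.G top = h := heq.symm.trans hrh
    have hmem : ∀ s ∈ orbOf pf top, D.IsPosRoot s.val ∧ h ≤ hgt C.G s := fun s hs =>
      ⟨(S.mem_orb hpf hs hok.top_pos).1, ((S.mem_orb hpf hs hok.top_pos).2.trans htop).ge⟩
    have hzU : z ∈ (Uh C.G h : Subgroup (GL D.Idx K)) := orbX_mem_Uh _ hmem
    have hzF := S.orb_elt hpf hok.perm hok.comm hh hv hvF hok.top_pos htop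
    have hw : z⁻¹ * v ∈ (Uh C.G (h + 1) : Subgroup (GL D.Idx K)) := by
      refine mem_Uh_succ C hh (mul_mem (inv_mem hzU) hv) fun s hs hsh => ?_
      have hz : coord C.G s z = if s ∈ orbOf pf top then coord C.G s v else 0 :=
        (coord_orbX hh hs hsh _ (orbOf pf top) (List.nodup_dedup _) hmem).2
      rw [coord_mul C.G hh (by omega) (inv_mem hzU) hv, coord_inv C.G hh (by omega) hzU, hz,
        if_pos (hok.top_all s hs (hsh.trans htop.symm)), neg_add_cancel]
    have hwF := mul_mem (inv_mem hzF) hvF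
    have hwH := O'.fix_le _ hwF (hhigh (h + 1) (by omega) (by omega) _ hwF hw)
    have hzH : z ∈ H := by simpa using mul_mem hvH (inv_mem hwH)
    have h0 := hrat (fun s => coord C.G s v)
      (fun s hs => S.fix_coord hh hv hvF (hmem s hs).1 ((S.mem_orb hpf hs hok.top_pos).2.trans htop)) hzH
    exact horbit h hh v hvF hv top hok.top_pos htop h0 r (hok.top_all r hr heq)
  · obtain ⟨h1, h2⟩ := hok.top_high r hr hgt'
    exact hplain h hh v hvF hv r hr hrh h1 h2

end CfsgLib.Lie.Chev.TwSub
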