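import Cfsg.Agent.Lib.Lie.Chev.Tw.Sub.Main
import Cfsg.Agent.Lib.Lie.Chev.Sub.Main

/-!
# The common end of the proofs of maximality
-/

set_option autoImplicit false
set_option linter.unusedSectionVars false

namespace CfsgLib.Lie.Chev.TwSub

open Cfsg.Lie
open scoped MatrixGroups

variable {D : ChevalleyDatum} {K : Type*} [Field K] {C : Full D} {T : Twist C.G K}

theorem fmap_eq_iff {q : ℕ} {θ : K ≃+* K} (hθ : ∀ x, θ x = x ^ q) (g : GL D.Idx K) :
    fmap D θ.toRingHom g = g ↔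
      ∀ i j : D.Idx, ((g : Matrix D.Idx D.Idx K) i j) ^ q = (g : Matrix D.Idx D.Idx K) i j := by
  constructor
  · intro h i j
    have := congrFun (congrFun (congrArg (fun x : GL D.Idx K => (x : Matrix D.Idx D.Idx K)) h) i) j
    rw [coe_fmap, Matrix.map_apply] at this
    exact (hθ _).symm.trans this
  · intro h
    apply Units.ext
    ext i j
    rw [coe_fmap, Matrix.map_apply]
    exact (hθ _).trans (h i j)

/-- maximality from the fixedness of proper overgroups and one irrational element -/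
theorem conclude {q : ℕ} {θ : K ≃+* K} (hθ : ∀ x, θ x = x ^ q) {Γ : Subgroup (GL D.Idx K)} (hΓ : Γ = T.Fix)
    {M : Subgroup (GL D.Idx K)}
    (hM : ∀ g : GL D.Idx K, g ∈ M ↔ g ∈ Γ ∧
      ∀ i j : D.Idx, ((g : Matrix D.Idx D.Idx K) i j) ^ q = (g : Matrix D.Idx D.Idx K) i j)
    (hall : ∀ H : Subgroup (GL D.Idx K), TOver T θ H → H ≠ Γ → ∀ g ∈ H, fmap D θ.toRingHom g = g)
    (hne : ∃ y ∈ Γ, fmap D θ.toRingHom y ≠ y) :
    M ≠ Γ ∧ ∀ H : Subgroup (GL D.Idx K), M ≤ H → H ≤ Γ → H = M ∨ H = Γ := by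
  constructor
  · rintro rfl
    obtain ⟨y, hy, hne⟩ := hne
    exact hne ((fmap_eq_iff hθ y).2 ((hM y).1 hy).2)
  · intro H hMH hHΓ
    by_cases e : H = Γ
    · exact Or.inr e
    refine Or.inl (le_antisymm (fun g hg => (hM g).2 ⟨hHΓ hg, (fmap_eq_iff hθ g).1 ?_⟩) hMH)
    exact hall H ⟨hΓ ▸ hHΓ, fun x hx hσ => hMH ((hM x).2 ⟨hΓ.symm ▸ hx, (fmap_eq_iff hθ x).1 hσ⟩)⟩ e g hg

/-- the fixed field of a power map of prime degree is maximal, for an equivalence -/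
theorem maximal_equiv [Fintype K] {p : ℕ} [Fact p.Prime] [CharP K p] {a r : ℕ} (ha : 1 ≤ a) (hr : r.Prime)
    (hK : Fintype.card K = (p ^ a) ^ r) {θ : K ≃+* K} (hθ : ∀ x, θ x = x ^ p ^ a) :
    (∀ E : Subfield K, θ.toRingHom.eqLocusField (RingHom.id K) ≤ E →
      E = θ.toRingHom.eqLocusField (RingHom.id K) ∨ E = ⊤) ∧ ∃ t : K, θ t ≠ t := by
  have e : θ.toRingHom = iterateFrobenius K p a := RingHom.ext fun x => by
    rw [iterateFrobenius_def]; exact hθ x
  obtain ⟨h1, t, ht⟩ := Sub.maximal_fixed_field p ha hr hK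
  rw [e]
  refine ⟨h1, t, fun h => ht ?_⟩
  rw [← e]
  exact h

end CfsgLib.Lie.Chev.TwSub
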