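import Cfsg.Agent.Lib.Lie.Chev.Tw.Sub.Data
import Cfsg.Agent.Lib.Lie.Chev.Tw.Sub.RootClosed
import Cfsg.Agent.Lib.Lie.Chev.Tw.Sub.Final
import Cfsg.Agent.Lib.Lie.Chev.Tw.D4Gp

/-!
# The elements of ³D₄ over the fixed field form a maximal subgroup
-/

set_option autoImplicit false
set_option maxRecDepth 100000
set_option linter.unusedSectionVars false

namespace CfsgLib.Lie.Chev.TwSub.D4

open Cfsg.Lie
open scoped MatrixGroups
open TD4 (C rt nd twist orbits)
open CfsgLib.Lie.SL2Rel (Fam)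

variable {K : Type*} [Field K] (θ : K ≃+* K)

theorem hpf : ∀ r : Fin chevD4.nroots, (twist θ).p r = pf r := fun r => by
  refine Fin.ext ?_
  show graphD4.p.get r.val = graphD4.p.get r.val % chevD4.nroots
  exact (Nat.mod_eq_of_lt ((twist θ).p r).isLt).symm

theorem hef : ∀ r : Fin chevD4.nroots, (twist θ).eps r = (sgI (ef r) : K) := fun r => by
  show (sgnB (graphD4.eps.get r.val) : K) = _
  unfold ef
  cases graphD4.eps.get r.val <;> rfl

theorem words : ∀ k : Fin orbGraphD4.no,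
    orbGraphD4.wl chevD4 k = if k.val = 0 then [nd 1] else [nd 0, nd 2, nd 3] := by decide +kernel

theorem node_nd : (twist θ).node (nd 0) = nd 2 ∧ (twist θ).node (nd 2) = nd 3 ∧
    (twist θ).node (nd 3) = nd 0 ∧ (twist θ).node (nd 1) = nd 1 := by
  refine ⟨?_, ?_, ?_, ?_⟩ <;>
  · refine Fin.ext ?_
    rw [TD4.node_eq]
    decide +kernel

theorem setting : Setting (orbits θ) θ where
  σ_eq _ _ := rfl
  eps_unit r := by
    rw [hef]
    cases ef r <;> simp [sgI]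
  fold_fix k := by
    obtain ⟨n0, n2, n3, n1⟩ := node_nd θ
    have hnU : ∀ i, (C.G.nU i : GL chevD4.Idx K) = C.G.nE (C.G.simp' i) 1 := fun i => by
      simp [Good.nU, Good.nE]
    obtain ⟨o1, o2, o3⟩ := TD4.orth_135
    obtain ⟨s0, s1, s2, s3⟩ := TD4.simp_rt
    show C.G.nw (orbGraphD4.wl chevD4 k) ∈ (twist θ).Fix
    rw [words]
    split_ifs
    · rw [C.G.nw_cons, C.G.nw_nil, mul_one]
      exact (twist θ).mem_Fix.2 ⟨C.G.nU_mem_group _, by
        rw [(twist θ).φ_nU]; exact Subtype.ext (by rw [n1])⟩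
    · rw [C.G.nw_cons, C.G.nw_cons, C.G.nw_cons, C.G.nw_nil, mul_one]
      refine (twist θ).mem_Fix.2 ⟨mul_mem (C.G.nU_mem_group _) (mul_mem (C.G.nU_mem_group _) (C.G.nU_mem_group _)), ?_⟩
      rw [show (⟨C.G.nU (nd 0) * (C.G.nU (nd 2) * C.G.nU (nd 3)),
          mul_mem (C.G.nU_mem_group (nd 0)) (mul_mem (C.G.nU_mem_group (nd 2)) (C.G.nU_mem_group (nd 3)))⟩ :
            ↥(chevD4.group K)) =
        ⟨C.G.nU (nd 0), C.G.nU_mem_group _⟩ * (⟨C.G.nU (nd 2), C.G.nU_mem_group _⟩ *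
          ⟨C.G.nU (nd 3), C.G.nU_mem_group _⟩) from rfl, map_mul, map_mul, (twist θ).φ_nU, (twist θ).φ_nU,
        (twist θ).φ_nU]
      refine Subtype.ext ?_
      rw [Subgroup.coe_mul, Subgroup.coe_mul, n0, n2, n3]
      show (C.G.nU (nd 2) : GL chevD4.Idx K) * (C.G.nU (nd 3) * C.G.nU (nd 0)) =
        C.G.nU (nd 0) * (C.G.nU (nd 2) * C.G.nU (nd 3))
      rw [hnU, hnU, hnU, s0, s2, s3, ← mul_assoc]
      exact ((C.nE_commute o1 1 1).mul_right (C.nE_commute o2 1 1)).eq.symm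
  hgt_p r := by
    rw [hpf]
    have h : ∀ r : Fin chevD4.nroots, hgt C.G (pf r) = hgt C.G r := by decide +kernel
    exact h r

/-- the permutation of a word in the orbit elements -/
noncomputable def img (ks : List (Fin orbGraphD4.no)) (r : Fin chevD4.nroots) : Fin chevD4.nroots :=
  ⟨ks.foldr (fun k x => digit (orbGraphD4.tab.get k.val) x) r.val % chevD4.nroots,
    Nat.mod_lt _ (Nat.zero_lt_of_lt r.isLt)⟩

theorem wordP_img (ks : List (Fin orbGraphD4.no)) (r : Fin chevD4.nroots) :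
    wordP (orbits θ) ks r = img ks r := by
  have e := wordP_val (O := orbits θ) (fun k r => digit (orbGraphD4.tab.get k.val) r.val)
    (fun k x => digit (orbGraphD4.tab.get k.val) x) (TD4.wO_val θ) (fun _ _ => rfl) ks r
  refine Fin.ext (e.trans ?_)
  show _ = _ % _
  rw [← e]
  exact (Nat.mod_eq_of_lt (wordP (orbits θ) ks r).isLt).symm

/-- the word carrying the terminal orbit to the outer simple roots -/
def kA : List (Fin orbGraphD4.no) := [⟨0, by decide +kernel⟩, ⟨1, by decide +kernel⟩]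

variable [Fintype K] {q : ℕ}

/-- an irrational element of the terminal orbit gives everything -/
theorem hrat (p : ℕ) [Fact p.Prime] [CharP K p] (hθ : ∀ x, θ x = x ^ q) (h3 : ∀ t : K, θ (θ (θ t)) = t)
    (hmax : ∀ E : Subfield K, θ.toRingHom.eqLocusField (RingHom.id K) ≤ E →
      E = θ.toRingHom.eqLocusField (RingHom.id K) ∨ E = ⊤)
    {H : Subgroup (GL chevD4.Idx K)} (O' : TOver (twist θ) θ H) (hne : H ≠ twistedD4 K q)
    (c : Fin chevD4.nroots → K) (hH : orbX C.G (orbOf pf (rt 17)) c ∈ H) : θ (c (rt 17)) = c (rt 17) := by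
  by_contra hirr
  refine hne (le_antisymm ((TD4.twGp θ hθ h3).eq_Fix ▸ O'.le) ?_)
  have hF : ∀ a ∈ θ.toRingHom.eqLocusField (RingHom.id K), θ a = a := fun a ha => ha
  have hrt : rt 17 ∈ orbOf pf (rt 17) := by simp [orbOf]
  obtain ⟨o1, o2, o3⟩ := TD4.orth_135
  obtain ⟨n1, n2, n3, -⟩ := TD4.negr_rt
  have hall : ∀ t, TD4.x3 θ (rt 18) (rt 13) (rt 12) t ∈ H ∧ TD4.x3 θ (rt 5) (rt 10) (rt 11) t ∈ H := by
    intro t
    obtain ⟨f, hfH, hfirr, hcov⟩ := (setting θ).to_simple O' hH kA (o' := [rt 18, rt 13, rt 12])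
      (by rw [List.map_congr_left fun r _ => wordP_img θ kA r]; decide +kernel)
      (by decide +kernel) (by decide +kernel) (by decide +kernel) hrt hirr
    rw [wordP_img, show img kA (rt 17) = rt 18 from by decide +kernel] at hfirr
    have hp18 : pf (rt 18) = rt 13 ∧ ef (rt 18) = false ∧ pf (rt 13) = rt 12 ∧ ef (rt 13) = false := by decide +kernel
    obtain ⟨a1, a2, a3, a4⟩ := hp18
    have hb := hcov (rt 18) (by simp) (by rw [hpf, a1]; simp)
    rw [hpf, a1, hef, a2] at hb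
    have hc' := hcov (rt 13) (by simp) (by rw [hpf, a3]; simp)
    rw [hpf, a3, hef, a4] at hc'
    have hfb : f (rt 13) = θ (f (rt 18)) := by simpa [sgI] using hb
    have hfc : f (rt 12) = θ (θ (f (rt 18))) := by rw [← hfb]; simpa [sgI] using hc'
    have hx : tripleHom C θ o1 o2 o3 (Fam.upper (f (rt 18))) ∈ H := by
      rw [tripleHom_upper, ← hfc, ← hfb]; simpa [orbX, mul_assoc] using hfH
    have hσ : ∀ (x y z : Fin chevD4.nroots) (t : K), θ t = t →
        fmap chevD4 θ.toRingHom (TD4.x3 θ x y z t) = TD4.x3 θ x y z t := by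
      intro x y z t ht
      simp only [TD4.x3, ht, map_mul, C.G.fmap_xu, show θ.toRingHom t = t from ht]
    have hm := TD4.triple_mem θ hθ
    have hres := full_orbit p hmax (tripleHom C θ o1 o2 o3) (H := H)
      (fun s hs => by
        rw [tripleHom_upper]
        exact O'.fix_le _ (TD4.le_Fix θ hθ h3 (hm.1 s)) (hσ _ _ _ s (hF s hs)))
      (fun s hs => by
        rw [tripleHom_lower, n1, n2, n3]
        exact O'.fix_le _ (TD4.le_Fix θ hθ h3 (hm.2 s)) (hσ _ _ _ s (hF s hs)))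
      (t := f (rt 18)) (fun hm' => hfirr (hF _ hm')) hx t
    rw [tripleHom_upper, tripleHom_lower, n1, n2, n3] at hres
    exact hres
  refine C.G.gen_le fun w hw => ?_
  rcases hw with ⟨t, ht, r, hr, rfl⟩ | ⟨t, rs, hrs, rfl⟩
  · have hd : ∀ r ∈ [d4p2, d4m2], r < chevD4.nroots ∧ graphD4.p.get r = r ∧
        graphD4.eps.get r = false := by decide +kernel
    obtain ⟨h1, h2, h3'⟩ := hd r hr
    have htt : θ t = t := (hθ t).trans ht
    refine ⟨[(⟨r, h1⟩, t)], rfl, ?_⟩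
    simp only [List.map_cons, List.map_nil, List.prod_cons, List.prod_nil, mul_one]
    exact O'.fix_le _ ((twist θ).mem_Fix.2 ⟨C.G.xu_mem _ _, by
      rw [(twist θ).φ_xu, TD4.p_eq θ (r := ⟨r, h1⟩) (s := ⟨r, h1⟩) h2, TD4.eps_one θ (r := ⟨r, h1⟩) h3',
        TD4.σ_eq, one_mul, htt]⟩) (by rw [C.G.fmap_xu]; exact congrArg _ htt)
  · simp only [List.mem_cons, List.not_mem_nil, or_false] at hrs
    rcases hrs with rfl | rfl
    · exact ⟨[(rt 18, t), (rt 13, θ t), (rt 12, θ (θ t))], by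
        simp [rt, d4p1, d4p3, d4p4, hθ, ← pow_mul, pow_two], by
        simpa [TD4.x3, mul_assoc] using (hall t).1⟩
    · exact ⟨[(rt 5, t), (rt 10, θ t), (rt 11, θ (θ t))], by
        simp [rt, d4m1, d4m3, d4m4, hθ, ← pow_mul, pow_two], by
        simpa [TD4.x3, mul_assoc] using (hall t).2⟩

theorem corner : CornerOk C pf ef (rt 23) (rt 22) (rt 14) where
  top_fix := by decide +kernel
  sub_pos := by decide +kernel
  sub_fix := by decide +kernel
  α_fix := by decide +kernel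
  only_top := by decide +kernel
  others := by decide +kernel
  corner := by decide +kernel

/-- every proper overgroup consists of fixed elements -/
theorem all (p : ℕ) [Fact p.Prime] [CharP K p] (hθ : ∀ x, θ x = x ^ q) (h3 : ∀ t : K, θ (θ (θ t)) = t)
    (hmax : ∀ E : Subfield K, θ.toRingHom.eqLocusField (RingHom.id K) ≤ E →
      E = θ.toRingHom.eqLocusField (RingHom.id K) ∨ E = ⊤)
    {H : Subgroup (GL chevD4.Idx K)} (O' : TOver (twist θ) θ H) (hne : H ≠ twistedD4 K q) :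
    ∀ g ∈ H, fmap chevD4 θ.toRingHom g = g := by
  have S := setting θ
  have hU : ∀ u ∈ chevD4.posUnipotent K, u ∈ H → fmap chevD4 θ.toRingHom u = u := fun u hu huH =>
    S.unip_fixed unipOk laced (hpf θ) (hef θ) (fun _ => h3) O' (fun c _ => hrat θ p hθ h3 hmax O' hne c) hu huH
  have hchk : chkSupp chevD4 = true := chkSupp_all (by simp)
  have hnode : ∀ J ∈ [J0, ∅], ∀ j ∈ J, (twist θ).node j ∈ J := by
    have h : ∀ J ∈ [J0, ∅], ∀ j ∈ J, ∀ i : Fin chevD4.rank, i.val = TD4.node.get j.val → i ∈ J := by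
      decide +kernel
    exact fun J hJ j hj => h J hJ j hj _ (TD4.node_eq θ j)
  have hP : ∀ p ∈ H, p ∈ C.PJ J0 → fmap chevD4 θ.toRingHom p = p := by
    intro x hx hx0
    have h22 : pf (rt 22) = rt 22 ∧ ef (rt 22) = false := by decide +kernel
    obtain ⟨g1, x1, -, e1, hx1, hx1', rfl⟩ :=
      step1.split S sums (hnode ∅ (by simp)) ((hpf θ _).trans h22.1) (by rw [hef, h22.2]; simp [sgI]) O' hU hx hx0
    rw [C.PJ_empty] at hx1'
    have hY : ∀ i : Fin chevD4.rank, ∃ L : List (Fin chevD4.rank), L.Nodup ∧ i ∈ L ∧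
        (L.map fun j => C.G.xu (C.G.simp' j) (1 : K)).prod ∈ (twist θ).Fix := by
      intro i
      have h : ∀ i : Fin chevD4.rank, ∃ L ∈ [[nd 0, nd 2, nd 3], [nd 1]],
          L.Nodup ∧ i ∈ L ∧ L.map C.G.simp' ∈ Ss := by decide +kernel
      obtain ⟨L, -, h1, h2', h4⟩ := h i
      obtain ⟨hs1, hs2, hs3⟩ := unipOk.S_ok _ h4
      refine ⟨L, h1, h2', ?_⟩
      have := S.orbX_fix (hpf θ) hs1 hs2 (c := fun _ => (1 : K)) (fun s hs => (hs3 s hs).1) fun s hs => by
        rw [hef, (hs3 s hs).2.2]; simp [sgI]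
      simpa [orbX, List.map_map, Function.comp_def] using this
    rw [map_mul, e1, borel_fixed O' hU hY hx1 hx1']
  intro g hg
  refine all_fixed S topOk corner hchk (hnode J0 (by simp)) (hpf θ) (hef θ) ?_ ?_ O' hU hP hg
  · intro r hr h1 h4
    have h : ∀ r : Fin chevD4.nroots, chevD4.IsPosRoot r.val → pf r = r → r ≠ rt 23 →
        ∃ k : Fin orbGraphD4.no, r.val < digit (orbGraphD4.tab.get k.val) r.val := by decide +kernel
    obtain ⟨k, hk⟩ := h r hr h1 h4
    exact ⟨k, by rw [TD4.wO_val]; exact hk⟩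
  · refine ⟨⟨0, by decide +kernel⟩, Fin.ext ?_⟩
    rw [TD4.wO_val]
    exact Eq.trans (by decide +kernel) (C.G.negr_val _).symm

/-- the statement -/
theorem maximal (p : ℕ) [Fact p.Prime] [CharP K p] (hq : ∃ a : ℕ, 1 ≤ a ∧ q = p ^ a)
    (hK : Fintype.card K = q ^ 3) (M : Subgroup (GL chevD4.Idx K))
    (hM : ∀ g : GL chevD4.Idx K, g ∈ M ↔ g ∈ twistedD4 K q ∧
      ∀ i j : chevD4.Idx, ((g : Matrix chevD4.Idx chevD4.Idx K) i j) ^ q =
        (g : Matrix chevD4.Idx chevD4.Idx K) i j) :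
    M ≠ twistedD4 K q ∧ ∀ H : Subgroup (GL chevD4.Idx K), M ≤ H → H ≤ twistedD4 K q →
      H = M ∨ H = twistedD4 K q := by
  obtain ⟨a, ha, rfl⟩ := hq
  obtain ⟨θ, hθ⟩ := Frob.exists_powEquiv (K := K)
    ((isPrimePow_nat_iff _).2 ⟨p, a, Fact.out, by omega, rfl⟩) hK
  have h3 : ∀ t : K, θ (θ (θ t)) = t := TD4.h3_of θ hθ hK
  obtain ⟨hmax, t, ht⟩ := maximal_equiv ha Nat.prime_three hK hθ
  have hΓ := (TD4.twGp θ hθ h3).eq_Fix
  refine conclude hθ hΓ hM (fun H O' hne => all θ p hθ h3 hmax O' hne) ⟨_, (TD4.triple_mem θ hθ).1 t, fun e => ht ?_⟩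
  have hc := congrArg (coord C.G (rt 18)) e
  have h18 : chevD4.IsPosRoot (rt 18).val ∧ chevD4.IsPosRoot (rt 13).val ∧ chevD4.IsPosRoot (rt 12).val ∧
      hgt C.G (rt 18) = 1 ∧ hgt C.G (rt 13) = 1 ∧ hgt C.G (rt 12) = 1 ∧ rt 13 ≠ rt 18 ∧ rt 12 ≠ rt 18 := by
    decide +kernel
  obtain ⟨hp1, hp2, hp3, hh1, hh2, hh3, hne1, hne2⟩ := h18
  have e18 : coord C.G (rt 18) (TD4.x3 θ (rt 18) (rt 13) (rt 12) t) = t := by
    rw [TD4.x3, coord_mul C.G le_rfl (by rw [hh1]; norm_num)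
        (mul_mem (xu_mem_Uh C.G hp1 hh1.ge _) (xu_mem_Uh C.G hp2 hh2.ge _)) (xu_mem_Uh C.G hp3 hh3.ge _),
      coord_mul C.G le_rfl (by rw [hh1]; norm_num) (xu_mem_Uh C.G hp1 hh1.ge _) (xu_mem_Uh C.G hp2 hh2.ge _),
      coord_xu C.G hp1 hp1 le_rfl, coord_xu C.G hp1 hp2 (by rw [hh1, hh2]), coord_xu C.G hp1 hp3 (by rw [hh1, hh3]),
      if_pos rfl, if_neg hne1, if_neg hne2, add_zero, add_zero]
  rwa [coord_fmap, e18] at hc

end CfsgLib.Lie.Chev.TwSub.D4
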