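import Cfsg.Agent.Lib.Lie.Chev.Tw.Sub.Data
import Cfsg.Agent.Lib.Lie.Chev.Tw.Sub.RootClosed
import Cfsg.Agent.Lib.Lie.Chev.Tw.Sub.Final
import Cfsg.Agent.Lib.Lie.Chev.Tw.E6Gp

/-!
# The elements of ²E₆ over the fixed field form a maximal subgroup
-/

set_option autoImplicit false
set_option maxRecDepth 100000
set_option linter.unusedSectionVars false

namespace CfsgLib.Lie.Chev.TwSub.E6

open Cfsg.Lie
open scoped MatrixGroups
open TE6 (C rt nd twist orbits)
open CfsgLib.Lie.SL2Rel (Fam)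

variable {K : Type*} [Field K] (θ : K ≃+* K)

theorem hpf : ∀ r : Fin chevE6.nroots, (twist θ).p r = pf r := fun r => by
  refine Fin.ext ?_
  show graphE6.p.get r.val = graphE6.p.get r.val % chevE6.nroots
  exact (Nat.mod_eq_of_lt ((twist θ).p r).isLt).symm

theorem hef : ∀ r : Fin chevE6.nroots, (twist θ).eps r = (sgI (ef r) : K) := fun r => by
  show (sgnB (graphE6.eps.get r.val) : K) = _
  unfold ef
  cases graphE6.eps.get r.val <;> rfl

theorem words : ∀ k : Fin orbGraphE6.no,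
    orbGraphE6.wl chevE6 k = if k.val = 0 then [nd 1] else if k.val = 1 then [nd 3] else
      if k.val = 2 then [nd 2, nd 4] else [nd 0, nd 5] := by decide +kernel

theorem node_nd : ((twist θ).node (nd 0) = nd 5 ∧ (twist θ).node (nd 5) = nd 0) ∧
    ((twist θ).node (nd 2) = nd 4 ∧ (twist θ).node (nd 4) = nd 2) ∧
    ((twist θ).node (nd 1) = nd 1 ∧ (twist θ).node (nd 3) = nd 3) := by
  refine ⟨⟨?_, ?_⟩, ⟨?_, ?_⟩, ⟨?_, ?_⟩⟩ <;>
  · refine Fin.ext ?_
    rw [TE6.node_eq]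
    decide +kernel

theorem setting : Setting (orbits θ) θ where
  σ_eq _ _ := rfl
  eps_unit r := by
    rw [hef]
    cases ef r <;> simp [sgI]
  fold_fix k := by
    obtain ⟨⟨n0, n5⟩, ⟨n2, n4⟩, n1, n3⟩ := node_nd θ
    have hnU : ∀ i, (C.G.nU i : GL chevE6.Idx K) = C.G.nE (C.G.simp' i) 1 := fun i => by
      simp [Good.nU, Good.nE]
    have hg : ∀ l : List (Fin chevE6.rank), C.G.nw (K := K) l ∈ chevE6.group K := fun l =>
      C.G.monomial_le_group (C.G.nw_mem_monomial _)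
    have hone : ∀ i, (twist θ).node i = i → C.G.nw (K := K) [i] ∈ (twist θ).Fix := fun i hi => by
      rw [C.G.nw_cons, C.G.nw_nil, mul_one]
      exact (twist θ).mem_Fix.2 ⟨C.G.nU_mem_group i, by rw [(twist θ).φ_nU]; exact Subtype.ext (by rw [hi])⟩
    have htwo : ∀ i j, (twist θ).node i = j → (twist θ).node j = i → C.Orth (C.G.simp' i) (C.G.simp' j) →
        C.G.nw (K := K) [i, j] ∈ (twist θ).Fix := fun i j hi hj ho => by
      rw [C.G.nw_cons, C.G.nw_cons, C.G.nw_nil, mul_one]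
      refine (twist θ).mem_Fix.2 ⟨mul_mem (C.G.nU_mem_group i) (C.G.nU_mem_group j), ?_⟩
      rw [show (⟨C.G.nU i * C.G.nU j, mul_mem (C.G.nU_mem_group i) (C.G.nU_mem_group j)⟩ : ↥(chevE6.group K)) =
        ⟨C.G.nU i, C.G.nU_mem_group i⟩ * ⟨C.G.nU j, C.G.nU_mem_group j⟩ from rfl, map_mul, (twist θ).φ_nU,
        (twist θ).φ_nU]
      refine Subtype.ext ?_
      rw [Subgroup.coe_mul, hi, hj]
      show (C.G.nU j : GL chevE6.Idx K) * C.G.nU i = C.G.nU i * C.G.nU j
      rw [hnU, hnU]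
      exact (C.nE_commute ho 1 1).eq.symm
    obtain ⟨o1, o2⟩ := TE6.orth_pairs
    obtain ⟨s0, s1, s2, s3, s4, s5⟩ := TE6.simp_rt
    show C.G.nw (orbGraphE6.wl chevE6 k) ∈ (twist θ).Fix
    rw [words]
    split_ifs
    · exact hone _ n1
    · exact hone _ n3
    · exact htwo _ _ n2 n4 (by rw [s2, s4]; exact o1)
    · exact htwo _ _ n0 n5 (by rw [s0, s5]; exact o2)
  hgt_p r := by
    rw [hpf]
    have h : ∀ r : Fin chevE6.nroots, hgt C.G (pf r) = hgt C.G r := by decide +kernel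
    exact h r

/-- the permutation of a word in the orbit elements -/
noncomputable def img (ks : List (Fin orbGraphE6.no)) (r : Fin chevE6.nroots) : Fin chevE6.nroots :=
  ⟨ks.foldr (fun k x => digit (orbGraphE6.tab.get k.val) x) r.val % chevE6.nroots,
    Nat.mod_lt _ (Nat.zero_lt_of_lt r.isLt)⟩

theorem wordP_img (ks : List (Fin orbGraphE6.no)) (r : Fin chevE6.nroots) :
    wordP (orbits θ) ks r = img ks r := by
  have e := wordP_val (O := orbits θ) (fun k r => digit (orbGraphE6.tab.get k.val) r.val)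
    (fun k x => digit (orbGraphE6.tab.get k.val) x) (TE6.wO_val θ) (fun _ _ => rfl) ks r
  refine Fin.ext (e.trans ?_)
  show _ = _ % _
  rw [← e]
  exact (Nat.mod_eq_of_lt (wordP (orbits θ) ks r).isLt).symm

/-- the word carrying the terminal orbit to the first pair of simple roots -/
def kA : List (Fin orbGraphE6.no) :=
  [⟨2, by decide +kernel⟩, ⟨1, by decide +kernel⟩, ⟨2, by decide +kernel⟩, ⟨0, by decide +kernel⟩,
    ⟨1, by decide +kernel⟩, ⟨2, by decide +kernel⟩, ⟨3, by decide +kernel⟩, ⟨2, by decide +kernel⟩]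

/-- the word carrying the terminal orbit to the second pair of simple roots -/
def kB : List (Fin orbGraphE6.no) :=
  [⟨3, by decide +kernel⟩, ⟨1, by decide +kernel⟩, ⟨2, by decide +kernel⟩, ⟨0, by decide +kernel⟩,
    ⟨1, by decide +kernel⟩, ⟨2, by decide +kernel⟩, ⟨3, by decide +kernel⟩, ⟨2, by decide +kernel⟩]

variable [Fintype K] {q : ℕ}

/-- an irrational element of the terminal orbit gives everything -/
theorem hrat (p : ℕ) [Fact p.Prime] [CharP K p] (hθ : ∀ x, θ x = x ^ q) (h2 : ∀ t : K, θ (θ t) = t)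
    (hmax : ∀ E : Subfield K, θ.toRingHom.eqLocusField (RingHom.id K) ≤ E →
      E = θ.toRingHom.eqLocusField (RingHom.id K) ∨ E = ⊤)
    {H : Subgroup (GL chevE6.Idx K)} (O' : TOver (twist θ) θ H) (hne : H ≠ twistedE6 K q)
    (c : Fin chevE6.nroots → K) (hH : orbX C.G (orbOf pf (rt 66)) c ∈ H) : θ (c (rt 66)) = c (rt 66) := by
  by_contra hirr
  refine hne (le_antisymm ((TE6.twGp θ hθ h2).eq_Fix ▸ O'.le) ?_)
  have hF : ∀ a ∈ θ.toRingHom.eqLocusField (RingHom.id K), θ a = a := fun a ha => ha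
  have hrt : rt 66 ∈ orbOf pf (rt 66) := by simp [orbOf]
  have hfix1 : ∀ r : Fin chevE6.nroots, graphE6.p.get r.val = r.val → graphE6.eps.get r.val = false →
      ∀ t, θ t = t → C.G.xu r t ∈ H := fun r hp he t ht =>
    O'.fix_le _ ((twist θ).mem_Fix.2 ⟨C.G.xu_mem _ _, by
      rw [(twist θ).φ_xu, TE6.p_eq θ hp, TE6.eps_one θ he, TE6.σ_eq, one_mul, ht]⟩)
      (by rw [C.G.fmap_xu]; exact congrArg _ ht)
  have hpair : ∀ (ks : List (Fin orbGraphE6.no)) (a b : Fin chevE6.nroots), C.Orth a b →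
      ((orbOf pf (rt 66)).map (img ks)).Perm [a, b] → img ks (rt 66) = a → a ≠ b →
      chevE6.commTerms a.val b.val = [] → (∀ x ∈ [a, b], chevE6.IsPosRoot x.val ∧ hgt C.G x = 1) →
      (pf a = b ∧ ef a = false) →
      (∀ t, θ t = t → TE6.x2 θ a b t ∈ (twist θ).Fix ∧
        TE6.x2 θ (C.G.negr a) (C.G.negr b) t ∈ (twist θ).Fix) →
      ∀ t, TE6.x2 θ a b t ∈ H ∧ TE6.x2 θ (C.G.negr a) (C.G.negr b) t ∈ H := by
    intro ks a b ho hperm hhit hab hcm hsimp hp hfix t
    obtain ⟨f, hfH, hfirr, hcov⟩ := (setting θ).to_simple O' hH ks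
      (by rw [List.map_congr_left fun r _ => wordP_img θ ks r]; exact hperm)
      (by simp [hab]) (by simp [hcm]) hsimp hrt hirr
    rw [wordP_img, hhit] at hfirr
    have hb := hcov a (by simp) (by rw [hpf, hp.1]; simp)
    rw [hpf, hp.1, hef, hp.2] at hb
    have hfb : f b = θ (f a) := by simpa [sgI] using hb
    have hx : pairHom C θ ho (Fam.upper (f a)) ∈ H := by
      rw [pairHom_upper, ← hfb]; simpa [orbX] using hfH
    have hσ : ∀ (x y : Fin chevE6.nroots) (t : K), θ t = t →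
        fmap chevE6 θ.toRingHom (C.G.xu x t * C.G.xu y (θ t)) = C.G.xu x t * C.G.xu y (θ t) := by
      intro x y t ht
      rw [map_mul, C.G.fmap_xu, C.G.fmap_xu, ht, show θ.toRingHom t = t from ht]
    have hall := full_orbit p hmax (pairHom C θ ho) (H := H)
      (fun s hs => by rw [pairHom_upper]; exact O'.fix_le _ (hfix s (hF s hs)).1 (hσ _ _ s (hF s hs)))
      (fun s hs => by rw [pairHom_lower]; exact O'.fix_le _ (hfix s (hF s hs)).2 (hσ _ _ s (hF s hs)))
      (t := f a) (fun hm => hfirr (hF _ hm)) hx t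
    rw [pairHom_upper, pairHom_lower] at hall
    exact hall
  obtain ⟨o1, o2⟩ := TE6.orth_pairs
  obtain ⟨-, -, n3, n4, n5, n6⟩ := TE6.negr_rt
  have hA := hpair kA (rt 56) (rt 36) o2 (by decide +kernel) (by decide +kernel) (by decide +kernel)
    (by decide +kernel) (by decide +kernel) (by decide +kernel) fun t _ => by
      rw [n5, n6]
      exact ⟨TE6.le_Fix θ hθ h2 (TE6.pair_mem θ hθ t).2.2.1, TE6.le_Fix θ hθ h2 (TE6.pair_mem θ hθ t).2.2.2⟩
  have hB := hpair kB (rt 42) (rt 37) o1 (by decide +kernel) (by decide +kernel) (by decide +kernel)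
    (by decide +kernel) (by decide +kernel) (by decide +kernel) fun t _ => by
      rw [n3, n4]
      exact ⟨TE6.le_Fix θ hθ h2 (TE6.pair_mem θ hθ t).1, TE6.le_Fix θ hθ h2 (TE6.pair_mem θ hθ t).2.1⟩
  refine C.G.gen_le fun w hw => ?_
  rcases hw with ⟨t, ht, r, hr, rfl⟩ | ⟨t, rs, hrs, rfl⟩
  · have hd : ∀ r ∈ [e6p2, e6m2, e6p4, e6m4], r < chevE6.nroots ∧ graphE6.p.get r = r ∧
        graphE6.eps.get r = false := by decide +kernel
    obtain ⟨h1, h2', h3'⟩ := hd r hr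
    exact ⟨[(⟨r, h1⟩, t)], rfl, by simpa using hfix1 ⟨r, h1⟩ h2' h3' t ((hθ t).trans ht)⟩
  · have key : ∀ a b : Fin chevE6.nroots, TE6.x2 θ a b t ∈ H →
        ∃ l : List (Fin chevE6.nroots × K), [(a.val, t), (b.val, t ^ q)] = l.map (fun p => (p.1.val, p.2)) ∧
          (l.map fun p => C.G.xu p.1 p.2).prod ∈ H := fun a b h =>
      ⟨[(a, t), (b, θ t)], by simp [hθ], by simpa [TE6.x2] using h⟩
    simp only [List.mem_cons, List.not_mem_nil, or_false] at hrs
    rcases hrs with rfl | rfl | rfl | rfl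
    · exact key (rt 56) (rt 36) (hA t).1
    · exact key (rt 15) (rt 35) (by rw [← n5, ← n6]; exact (hA t).2)
    · exact key (rt 42) (rt 37) (hB t).1
    · exact key (rt 29) (rt 34) (by rw [← n3, ← n4]; exact (hB t).2)

theorem corner : CornerOk C pf ef (rt 71) (rt 70) (rt 46) where
  top_fix := by decide +kernel
  sub_pos := by decide +kernel
  sub_fix := by decide +kernel
  α_fix := by decide +kernel
  only_top := by decide +kernel
  others := by decide +kernel
  corner := by decide +kernel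

/-- every proper overgroup consists of fixed elements -/
theorem all (p : ℕ) [Fact p.Prime] [CharP K p] (hθ : ∀ x, θ x = x ^ q) (h2 : ∀ t : K, θ (θ t) = t)
    (hmax : ∀ E : Subfield K, θ.toRingHom.eqLocusField (RingHom.id K) ≤ E →
      E = θ.toRingHom.eqLocusField (RingHom.id K) ∨ E = ⊤)
    {H : Subgroup (GL chevE6.Idx K)} (O' : TOver (twist θ) θ H) (hne : H ≠ twistedE6 K q) :
    ∀ g ∈ H, fmap chevE6 θ.toRingHom g = g := by
  have S := setting θ
  have hU : ∀ u ∈ chevE6.posUnipotent K, u ∈ H → fmap chevE6 θ.toRingHom u = u := fun u hu huH =>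
    S.unip_fixed unipOk laced (hpf θ) (hef θ) (fun ⟨w, hw, e⟩ => absurd e (by
      have : ∀ w ∈ wit, w.2.2.2 ≠ true := by decide +kernel
      exact this w hw)) O' (fun c _ => hrat θ p hθ h2 hmax O' hne c) hu huH
  have hchk : chkSupp chevE6 = true := chkSupp_all (by simp)
  have hnode : ∀ J ∈ [J0, J1, J2, ∅], ∀ j ∈ J, (twist θ).node j ∈ J := by
    have h : ∀ J ∈ [J0, J1, J2, ∅], ∀ j ∈ J, ∀ i : Fin chevE6.rank, i.val = TE6.node.get j.val → i ∈ J := by
      decide +kernel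
    exact fun J hJ j hj => h J hJ j hj _ (TE6.node_eq θ j)
  have hfixr : ∀ r : Fin chevE6.nroots, pf r = r → ef r = false → (twist θ).p r = r ∧ (twist θ).eps r = 1 :=
    fun r h1 h3 => ⟨(hpf θ r).trans h1, by rw [hef, h3]; simp [sgI]⟩
  obtain ⟨a1, b1⟩ := hfixr (rt 70) (by decide +kernel) (by decide +kernel)
  obtain ⟨a2, b2⟩ := hfixr (rt 69) (by decide +kernel) (by decide +kernel)
  obtain ⟨a3, b3⟩ := hfixr (rt 65) (by decide +kernel) (by decide +kernel)
  have hP : ∀ p ∈ H, p ∈ C.PJ J0 → fmap chevE6 θ.toRingHom p = p := by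
    intro x hx hx0
    obtain ⟨g1, x1, -, e1, hx1, hx1', rfl⟩ :=
      step1.split S sums (hnode J1 (by simp)) a1 b1 O' hU hx hx0
    obtain ⟨g2, x2, -, e2, hx2, hx2', rfl⟩ :=
      step2.split S sums (hnode J2 (by simp)) a2 b2 O' hU hx1 hx1'
    obtain ⟨g3, x3, -, e3, hx3, hx3', rfl⟩ :=
      step3.split S sums (hnode ∅ (by simp)) a3 b3 O' hU hx2 hx2'
    rw [C.PJ_empty] at hx3'
    have hY : ∀ i : Fin chevE6.rank, ∃ L : List (Fin chevE6.rank), L.Nodup ∧ i ∈ L ∧
        (L.map fun j => C.G.xu (C.G.simp' j) (1 : K)).prod ∈ (twist θ).Fix := by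
      intro i
      have h : ∀ i : Fin chevE6.rank, ∃ L ∈ [[nd 0, nd 5], [nd 1], [nd 2, nd 4], [nd 3]],
          L.Nodup ∧ i ∈ L ∧ L.map C.G.simp' ∈ Ss := by decide +kernel
      obtain ⟨L, -, h1, h2', h3⟩ := h i
      obtain ⟨hs1, hs2, hs3⟩ := unipOk.S_ok _ h3
      refine ⟨L, h1, h2', ?_⟩
      have := S.orbX_fix (hpf θ) hs1 hs2 (c := fun _ => (1 : K)) (fun s hs => (hs3 s hs).1) fun s hs => by
        rw [hef, (hs3 s hs).2.2]; simp [sgI]
      simpa [orbX, List.map_map, Function.comp_def] using this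
    rw [map_mul, map_mul, map_mul, e1, e2, e3, borel_fixed O' hU hY hx3 hx3']
  intro g hg
  refine all_fixed S topOk corner hchk (hnode J0 (by simp)) (hpf θ) (hef θ) ?_ ?_ O' hU hP hg
  · intro r hr h1 h3
    have h : ∀ r : Fin chevE6.nroots, chevE6.IsPosRoot r.val → pf r = r → r ≠ rt 71 →
        ∃ k : Fin orbGraphE6.no, r.val < digit (orbGraphE6.tab.get k.val) r.val := by decide +kernel
    obtain ⟨k, hk⟩ := h r hr h1 h3
    exact ⟨k, by rw [TE6.wO_val]; exact hk⟩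
  · refine ⟨⟨0, by decide +kernel⟩, Fin.ext ?_⟩
    rw [TE6.wO_val]
    exact Eq.trans (by decide +kernel) (C.G.negr_val _).symm

/-- the statement -/
theorem maximal (p : ℕ) [Fact p.Prime] [CharP K p] (hq : ∃ a : ℕ, 1 ≤ a ∧ q = p ^ a)
    (hK : Fintype.card K = q ^ 2) (M : Subgroup (GL chevE6.Idx K))
    (hM : ∀ g : GL chevE6.Idx K, g ∈ M ↔ g ∈ twistedE6 K q ∧
      ∀ i j : chevE6.Idx, ((g : Matrix chevE6.Idx chevE6.Idx K) i j) ^ q =
        (g : Matrix chevE6.Idx chevE6.Idx K) i j) :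
    M ≠ twistedE6 K q ∧ ∀ H : Subgroup (GL chevE6.Idx K), M ≤ H → H ≤ twistedE6 K q →
      H = M ∨ H = twistedE6 K q := by
  obtain ⟨a, ha, rfl⟩ := hq
  obtain ⟨θ, hθ⟩ := Frob.exists_powEquiv (K := K)
    ((isPrimePow_nat_iff _).2 ⟨p, a, Fact.out, by omega, rfl⟩) hK
  have h2 : ∀ t : K, θ (θ t) = t := fun t => by
    rw [hθ, hθ, ← pow_mul, show p ^ a * p ^ a = (p ^ a) ^ 2 from (pow_two _).symm, ← hK, FiniteField.pow_card]
  obtain ⟨hmax, t, ht⟩ := maximal_equiv ha Nat.prime_two hK hθ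
  have hΓ := (TE6.twGp θ hθ h2).eq_Fix
  refine conclude hθ hΓ hM (fun H O' hne => all θ p hθ h2 hmax O' hne) ⟨_, (TE6.pair_mem θ hθ t).2.2.1, fun e => ht ?_⟩
  have hc := congrArg (coord C.G (rt 56)) e
  have h56 : chevE6.IsPosRoot (rt 56).val ∧ chevE6.IsPosRoot (rt 36).val ∧ hgt C.G (rt 56) = 1 ∧
      hgt C.G (rt 36) = 1 ∧ rt 36 ≠ rt 56 := by decide +kernel
  obtain ⟨hp1, hp2, hh1, hh2, hne⟩ := h56
  have e56 : coord C.G (rt 56) (TE6.x2 θ (rt 56) (rt 36) t) = t := by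
    rw [TE6.x2, coord_mul C.G le_rfl (by rw [hh1]; norm_num) (xu_mem_Uh C.G hp1 hh1.ge _)
      (xu_mem_Uh C.G hp2 hh2.ge _), coord_xu C.G hp1 hp1 le_rfl, coord_xu C.G hp1 hp2 (by rw [hh1, hh2]),
      if_pos rfl, if_neg hne, add_zero]
  rwa [coord_fmap, e56] at hc

end CfsgLib.Lie.Chev.TwSub.E6
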