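import Cfsg.Agent.Lib.Lie.Chev.BorelTits
import Cfsg.Agent.Lib.Lie.Chev.FieldMap

/-!
# The filtration of the positive unipotent subgroup by heights and its linear coordinates

The coordinates of height `h` are additive on the subgroup of the roots of height at least `h`; in
the simply laced case those of a commutator with a root element are linear in them.
-/

set_option autoImplicit false
set_option linter.unusedSectionVars false

namespace CfsgLib.Lie.Chev.TwSub

open Cfsg.Lie
open scoped MatrixGroups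

variable {D : ChevalleyDatum} {K : Type*} [Field K]

/-- the height of a root -/
def hgt (G : Good D) (r : Fin D.nroots) : ℤ := ∑ j, G.rho r j

/-- the height of a coordinate -/
def hW (G : Good D) (b : D.Idx) : ℤ := ∑ j, weight D G.rho b j

/-- the subgroup of the roots of height at least `h` -/
noncomputable def Uh (G : Good D) (h : ℤ) : Subgroup (GL D.Idx K) :=
  ClP G fun r => D.IsPosRoot r.val ∧ h ≤ hgt G r

/-- off-diagonal entries raise the height by `h` or more -/
def RaiseH (G : Good D) (h : ℤ) (M : Matrix D.Idx D.Idx K) : Prop :=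
  (∀ a, M a a = 1) ∧ ∀ a b, a ≠ b → M a b ≠ 0 → h ≤ hW G a - hW G b

/-- the coordinate at a root -/
noncomputable def coord (G : Good D) (r : Fin D.nroots) (g : GL D.Idx K) : K :=
  ∑ j : Fin D.rank, ((G.coroot_gcd r).choose j : K) *
    (g : Matrix D.Idx D.Idx K) (Sum.inl j) (Sum.inr (G.negr r))

/-- all commutator formulas have one term with exponents one -/
def chkLaced (D : ChevalleyDatum) : Bool :=
  (List.range D.nroots).all fun r => (List.range D.nroots).all fun s =>
    r == s || r == D.neg s ||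
      D.commTerms r s == (D.chainRoot r s 1).toList.map fun x => (x, D.chainM r s 1, 1, 1)

/-- the coefficient at `q` of the commutator of the roots `r` and `s` -/
def ccB (D : ChevalleyDatum) (r s q : ℕ) : ℤ :=
  if D.chainRoot r s 1 = some q then -D.chainM r s 1 else 0

section good

variable (G : Good D)

theorem hgt_pos {r : Fin D.nroots} (hr : D.IsPosRoot r.val) : 1 ≤ hgt G r := by
  by_contra hlt
  have h0 : ∀ j ∈ Finset.univ, G.rho r j = 0 := (Finset.sum_eq_zero_iff_of_nonneg
    fun j _ => G.rho_nonneg hr j).1 (le_antisymm (by simp only [hgt] at hlt; omega)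
      (Finset.sum_nonneg fun j _ => G.rho_nonneg hr j))
  exact G.rho_ne_zero r (funext fun j => h0 j (Finset.mem_univ j))

theorem hgt_combo {r s p : Fin D.nroots} {i j : ℕ}
    (h : G.rho p = (i : ℤ) • G.rho r + (j : ℤ) • G.rho s) : hgt G p = i * hgt G r + j * hgt G s := by
  simp only [hgt, h, Pi.add_apply, Pi.smul_apply, smul_eq_mul, Finset.sum_add_distrib, Finset.mul_sum]

theorem Uh_mono {a b : ℤ} (h : a ≤ b) : (Uh G b : Subgroup (GL D.Idx K)) ≤ Uh G a :=
  G.ClP_mono fun _ hr => ⟨hr.1, h.trans hr.2⟩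

theorem xu_mem_Uh {r : Fin D.nroots} (hr : D.IsPosRoot r.val) {h : ℤ} (hh : h ≤ hgt G r) (t : K) :
    G.xu r t ∈ (Uh G h : Subgroup (GL D.Idx K)) :=
  G.xu_mem_ClP ⟨hr, hh⟩ t

theorem Uh_le_U (h : ℤ) : (Uh G h : Subgroup (GL D.Idx K)) ≤ D.posUnipotent K := by
  rw [Uh, ClP, Subgroup.closure_le]
  rintro g ⟨r, t, hr, rfl⟩
  exact G.xu_mem_U hr.1 t

theorem U_le_Uh_one : D.posUnipotent K ≤ (Uh G 1 : Subgroup (GL D.Idx K)) := by
  rw [G.posUnipotent_eq_closure, Subgroup.closure_le]
  rintro g ⟨r, t, hr, rfl⟩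
  exact xu_mem_Uh G hr (hgt_pos G hr) t

theorem raiseH_mul {h : ℤ} (hh : 1 ≤ h) {M N : Matrix D.Idx D.Idx K} (hM : RaiseH G h M)
    (hN : RaiseH G h N) : RaiseH G h (M * N) := by
  refine ⟨fun a => ?_, fun a b hab hne => ?_⟩
  · rw [Matrix.mul_apply, Finset.sum_eq_single a]
    · rw [hM.1, hN.1, one_mul]
    · intro c _ hc
      by_contra hz
      have h1 := hM.2 a c (Ne.symm hc) (left_ne_zero_of_mul hz)
      have h2 := hN.2 c a hc (right_ne_zero_of_mul hz)
      omega
    · simp
  · rw [Matrix.mul_apply] at hne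
    obtain ⟨c, -, hc⟩ := Finset.exists_ne_zero_of_sum_ne_zero hne
    by_cases h1 : a = c
    · subst h1; exact hN.2 a b hab (right_ne_zero_of_mul hc)
    · have e1 := hM.2 a c h1 (left_ne_zero_of_mul hc)
      by_cases h2 : c = b
      · subst h2; exact e1
      · have e2 := hN.2 c b h2 (right_ne_zero_of_mul hc)
        omega

theorem raiseH_xu {h : ℤ} (hh : 1 ≤ h) {r : Fin D.nroots} (hr : h ≤ hgt G r) (t : K) :
    RaiseH G h (G.xu r t : Matrix D.Idx D.Idx K) := by
  have hz : ∀ a b k, 1 ≤ k → k < 4 → hW G a - hW G b < h →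
      coef (act D r.val k (pos D b)) (pos D a) = 0 := by
    intro a b k hk1 hk4 hlt
    by_contra hne
    have hd : dmat D r k a b ≠ 0 := by simpa [dmat, show k ≠ 0 by omega] using hne
    have e := G.weight_eq r k a b hd hk4
    simp only [hW, e, Pi.add_apply, Pi.smul_apply, smul_eq_mul, Finset.sum_add_distrib, ← Finset.mul_sum] at hlt
    have h2 : (1 : ℤ) ≤ k := by exact_mod_cast hk1
    simp only [hgt] at hr
    nlinarith
  refine ⟨fun a => ?_, fun a b hab hne => ?_⟩
  · rw [Good.coe_xu, xg_apply, if_pos rfl, hz a a 1 le_rfl (by norm_num) (by omega),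
      hz a a 2 (by norm_num) (by norm_num) (by omega), hz a a 3 (by norm_num) (by norm_num) (by omega)]
    simp
  · by_contra hlt
    rw [not_le] at hlt
    apply hne
    rw [Good.coe_xu, xg_apply, if_neg hab, hz a b 1 le_rfl (by norm_num) hlt,
      hz a b 2 (by norm_num) (by norm_num) hlt, hz a b 3 (by norm_num) (by norm_num) hlt]
    simp

theorem raiseH_Uh {h : ℤ} (hh : 1 ≤ h) {g : GL D.Idx K} (hg : g ∈ (Uh G h : Subgroup (GL D.Idx K))) :
    RaiseH G h (g : Matrix D.Idx D.Idx K) := by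
  induction hg using Subgroup.closure_induction'' with
  | one => exact ⟨fun a => Matrix.one_apply_eq a, fun _ _ h' hne => absurd (Matrix.one_apply_ne h') hne⟩
  | mul x y _ _ hx hy => rw [Units.val_mul]; exact raiseH_mul G hh hx hy
  | mem x hx => obtain ⟨r, t, h', rfl⟩ := hx; exact raiseH_xu G hh h'.2 t
  | inv_mem x hx => obtain ⟨r, t, h', rfl⟩ := hx; rw [G.xu_inv]; exact raiseH_xu G hh h'.2 _

theorem hW_inl (j : Fin D.rank) : hW G (Sum.inl j) = 0 := by simp [hW, weight]

theorem hW_negr (r : Fin D.nroots) : hW G (Sum.inr (G.negr r)) = -hgt G r := by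
  simp [hW, hgt, weight, G.rho_negr]

theorem coord_mul {h : ℤ} (hh : 1 ≤ h) {r : Fin D.nroots} (hr : hgt G r < 2 * h) {a b : GL D.Idx K}
    (ha : a ∈ (Uh G h : Subgroup (GL D.Idx K))) (hb : b ∈ (Uh G h : Subgroup (GL D.Idx K))) :
    coord G r (a * b) = coord G r a + coord G r b := by
  have hA := raiseH_Uh G hh ha
  have hB := raiseH_Uh G hh hb
  simp only [coord, ← Finset.sum_add_distrib, ← mul_add]
  refine Finset.sum_congr rfl fun j _ => congrArg _ ?_
  rw [Units.val_mul, Matrix.mul_apply, Finset.sum_eq_add (Sum.inl j) (Sum.inr (G.negr r)) (by simp)]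
  · rw [hA.1, hB.1, one_mul, mul_one, add_comm]
  · intro c _ hc
    by_contra hz
    have h1 := hA.2 (Sum.inl j) c (Ne.symm hc.1) (left_ne_zero_of_mul hz)
    have h2 := hB.2 c (Sum.inr (G.negr r)) hc.2 (right_ne_zero_of_mul hz)
    rw [hW_inl] at h1
    rw [hW_negr] at h2
    omega
  · simp
  · simp

theorem coord_one (r : Fin D.nroots) : coord G r (1 : GL D.Idx K) = 0 := by
  simp [coord, Matrix.one_apply]

theorem coord_inv {h : ℤ} (hh : 1 ≤ h) {r : Fin D.nroots} (hr : hgt G r < 2 * h) {a : GL D.Idx K}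
    (ha : a ∈ (Uh G h : Subgroup (GL D.Idx K))) : coord G r a⁻¹ = -coord G r a := by
  have := coord_mul G hh hr (inv_mem ha) ha
  rw [inv_mul_cancel, coord_one] at this
  exact eq_neg_of_add_eq_zero_left this.symm

theorem coord_fmap (σ : K →+* K) (r : Fin D.nroots) (g : GL D.Idx K) :
    coord G r (fmap D σ g) = σ (coord G r g) := by
  simp [coord, coe_fmap, map_sum]

theorem coord_xu {r s : Fin D.nroots} (hr : D.IsPosRoot r.val) (hs : D.IsPosRoot s.val)
    (h : hgt G r ≤ hgt G s) (t : K) :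
    coord G r (G.xu s t) = if s = r then t else 0 := by
  have key : ∀ (j : Fin D.rank) k, 1 ≤ k → k < 4 → ¬ (s = r ∧ k = 1) →
      coef (act D s.val k (pos D (Sum.inr (G.negr r) : D.Idx))) (pos D (Sum.inl j : D.Idx)) = 0 := by
    intro j k hk hk4 hne
    by_contra hne'
    have hd : dmat D s k (Sum.inl j) (Sum.inr (G.negr r)) ≠ 0 := by
      simpa [dmat, show k ≠ 0 by omega] using hne'
    have e := G.weight_eq s k _ _ hd hk4
    simp only [weight, Sum.elim_inl, Sum.elim_inr, G.rho_negr] at e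
    have e' : G.rho r = (k : ℤ) • G.rho s := by
      rw [eq_comm, neg_add_eq_zero] at e
      exact e
    have h1 : hgt G r = k * hgt G s := by
      simp only [hgt, e', Pi.smul_apply, smul_eq_mul, Finset.mul_sum]
    have h2 := hgt_pos G hs
    have h3 : (1 : ℤ) ≤ k := by exact_mod_cast hk
    have hk1 : k = 1 := by
      by_contra hk1
      have : (2 : ℤ) ≤ k := by exact_mod_cast (show 2 ≤ k by omega)
      nlinarith
    refine hne ⟨(G.rho_injective ?_).symm, hk1⟩
    rw [e', hk1, Nat.cast_one, one_smul]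
  have hent : ∀ j : Fin D.rank, (G.xu s t : Matrix D.Idx D.Idx K) (Sum.inl j) (Sum.inr (G.negr r)) =
      if s = r then t * ((D.coroot.getD r.val #[]).getD j.val 0 : ℤ) else 0 := by
    intro j
    rw [Good.coe_xu, xg_apply, if_neg (by simp), key j 2 (by norm_num) (by norm_num) (by simp),
      key j 3 (by norm_num) (by norm_num) (by simp)]
    by_cases e : s = r
    · subst e
      have h1 := G.coroot_entry s j
      simp only [dmat, Matrix.of_apply, if_neg one_ne_zero] at h1
      rw [if_pos rfl, h1]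
      simp
    · rw [key j 1 le_rfl (by norm_num) (fun h => e h.1), if_neg e]
      simp
  simp only [coord, hent]
  by_cases e : s = r
  · simp only [if_pos e]
    have hc : ((∑ j, (G.coroot_gcd r).choose j * (D.coroot.getD r.val #[]).getD j.val 0 : ℤ) : K) = 1 := by
      rw [(G.coroot_gcd r).choose_spec, Int.cast_one]
    push_cast at hc
    calc _ = t * (∑ j : Fin D.rank, ((G.coroot_gcd r).choose j : K) *
          ((D.coroot.getD r.val #[]).getD j.val 0 : ℤ)) := by
          rw [Finset.mul_sum]; exact Finset.sum_congr rfl fun j _ => by ring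
      _ = t := by rw [hc, mul_one]
  · simp [e]

theorem coord_eq_zero {h : ℤ} {r : Fin D.nroots} (hr : D.IsPosRoot r.val) (hh : hgt G r < h)
    {g : GL D.Idx K} (hg : g ∈ (Uh G h : Subgroup (GL D.Idx K))) : coord G r g = 0 := by
  have h1 := hgt_pos G hr
  have hR := raiseH_Uh G (h := h) (by omega) hg
  refine Finset.sum_eq_zero fun j _ => mul_eq_zero_of_right _ ?_
  by_contra hne
  have := hR.2 _ _ (by simp) hne
  rw [hW_inl, hW_negr] at this
  omega

end good

variable (C : Full D)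

theorem Uh_conj {h : ℤ} {g v : GL D.Idx K} (hg : g ∈ D.posUnipotent K)
    (hv : v ∈ (Uh C.G h : Subgroup (GL D.Idx K))) : g * v * g⁻¹ ∈ (Uh C.G h : Subgroup (GL D.Idx K)) := by
  refine C.U_normalizes_ClP (fun b hb => hb.1) (fun s hs b hb p i j hi hj e => ?_) hg hv
  refine ⟨(C.rho_combo_index hs hb.1 hi hj e).1, ?_⟩
  rw [hgt_combo C.G e]
  have h1 := hgt_pos C.G hs
  have h2 := hgt_pos C.G hb.1
  have h3 : (1 : ℤ) ≤ i := by exact_mod_cast hi
  have h4 : (1 : ℤ) ≤ j := by exact_mod_cast hj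
  nlinarith [hb.2]

theorem Uh_comm_xu {a : ℤ} {g : GL D.Idx K} (hg : g ∈ (Uh C.G a : Subgroup (GL D.Idx K)))
    {r : Fin D.nroots} (hr : D.IsPosRoot r.val) (u : K) :
    (C.G.xu r u)⁻¹ * (g * C.G.xu r u * g⁻¹) ∈ (Uh C.G (a + hgt C.G r) : Subgroup (GL D.Idx K)) := by
  refine C.conj_modM (fun b hb => hb.1) (fun s hs b hb p i j hi hj e => ?_) hr (fun s hs => hs.1)
    (fun s hs _ p i j hi hj e => ?_) u hg
  · refine ⟨(C.rho_combo_index hs hb.1 hi hj e).1, ?_⟩
    rw [hgt_combo C.G e]
    have h1 := hgt_pos C.G hs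
    have h3 : (1 : ℤ) ≤ i := by exact_mod_cast hi
    have h4 : (1 : ℤ) ≤ j := by exact_mod_cast hj
    have h2 := hgt_pos C.G hb.1
    nlinarith [hb.2]
  · refine ⟨(C.rho_combo_index hs.1 hr hi hj e).1, ?_⟩
    rw [hgt_combo C.G e]
    have h1 := hgt_pos C.G hs.1
    have h2 := hgt_pos C.G hr
    have h3 : (1 : ℤ) ≤ i := by exact_mod_cast hi
    have h4 : (1 : ℤ) ≤ j := by exact_mod_cast hj
    nlinarith [hs.2]

theorem Uh_comm {a b : ℤ} {g v : GL D.Idx K} (hg : g ∈ (Uh C.G a : Subgroup (GL D.Idx K)))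
    (hv : v ∈ (Uh C.G b : Subgroup (GL D.Idx K))) :
    v⁻¹ * (g * v * g⁻¹) ∈ (Uh C.G (a + b) : Subgroup (GL D.Idx K)) := by
  induction hv using Subgroup.closure_induction with
  | one => simp
  | mul x y _ hy ihx ihy =>
    rw [show (x * y)⁻¹ * (g * (x * y) * g⁻¹) =
      (y⁻¹ * (x⁻¹ * (g * x * g⁻¹)) * y⁻¹⁻¹) * (y⁻¹ * (g * y * g⁻¹)) by group]
    exact mul_mem (Uh_conj C (inv_mem (Uh_le_U C.G _ hy)) ihx) ihy
  | inv x hx ihx =>
    rw [show x⁻¹⁻¹ * (g * x⁻¹ * g⁻¹) = (x * (x⁻¹ * (g * x * g⁻¹)) * x⁻¹)⁻¹ *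
      (1 : GL D.Idx K) by group]
    exact mul_mem (inv_mem (Uh_conj C (Uh_le_U C.G _ hx) ihx)) (one_mem _)
  | mem x hx =>
    obtain ⟨r, u, hr, rfl⟩ := hx
    exact Uh_mono C.G (by linarith [hr.2]) (Uh_comm_xu C hg hr.1 u)

/-- conjugation does not move the lowest coordinates -/
theorem coord_conj {h : ℤ} (hh : 1 ≤ h) {r : Fin D.nroots} (hr : D.IsPosRoot r.val) (hrh : hgt C.G r = h)
    {g v : GL D.Idx K} (hg : g ∈ D.posUnipotent K) (hv : v ∈ (Uh C.G h : Subgroup (GL D.Idx K))) :
    coord C.G r (g * v * g⁻¹) = coord C.G r v := by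
  have h2 := Uh_comm C (U_le_Uh_one C.G hg) hv
  rw [show g * v * g⁻¹ = v * (v⁻¹ * (g * v * g⁻¹)) by group,
    coord_mul C.G hh (by omega) hv (Uh_mono C.G (by omega) h2), coord_eq_zero C.G hr (by omega) h2, add_zero]

/-- an element with zero coordinates of height `h` lies higher -/
theorem mem_Uh_succ {h : ℤ} (hh : 1 ≤ h) {g : GL D.Idx K} (hg : g ∈ (Uh C.G h : Subgroup (GL D.Idx K)))
    (h0 : ∀ r : Fin D.nroots, D.IsPosRoot r.val → hgt C.G r = h → coord C.G r g = 0) :
    g ∈ (Uh C.G (h + 1) : Subgroup (GL D.Idx K)) := by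
  classical
  let S : Fin D.nroots → Prop := fun r => D.IsPosRoot r.val ∧ h ≤ hgt C.G r
  have hS : PosClosed C.G S := ⟨fun r hr => hr.1, fun r s q i j hr hs hi hj e => by
    refine ⟨(C.rho_combo_index hr.1 hs.1 hi hj e).1, ?_⟩
    rw [hgt_combo C.G e]
    have h3 : (1 : ℤ) ≤ i := by exact_mod_cast hi
    have h4 : (1 : ℤ) ≤ j := by exact_mod_cast hj
    have h1 := hr.2; have h2 := hs.2
    nlinarith⟩
  obtain ⟨t, ht, rfl⟩ := C.exists_coord hS D.nroots 0 (Nat.zero_add _) g
    (C.rootGrp_mono (fun r hr => ⟨hr, Nat.zero_le _⟩) hg)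
  have hcoord : ∀ r : Fin D.nroots, D.IsPosRoot r.val → hgt C.G r = h →
      coord C.G r (C.uprod 0 t) = t r := by
    intro r hr hrh
    have key : ∀ l : List (Fin D.nroots), l.Nodup → (∀ s ∈ l, D.IsPosRoot s.val) →
        (l.map fun s => C.G.xu s (t s)).prod ∈ (Uh C.G h : Subgroup (GL D.Idx K)) ∧
        coord C.G r (l.map fun s => C.G.xu s (t s)).prod = if r ∈ l then t r else 0 := by
      intro l
      induction l with
      | nil => intro _ _; exact ⟨by simp, by simp [coord_one]⟩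
      | cons s l ih =>
        intro hnd hl
        rw [List.nodup_cons] at hnd
        obtain ⟨hm, hc⟩ := ih hnd.2 fun x hx => hl x (List.mem_cons_of_mem _ hx)
        have hsU : C.G.xu s (t s) ∈ (Uh C.G h : Subgroup (GL D.Idx K)) := by
          by_cases hsS : S s
          · exact xu_mem_Uh C.G hsS.1 hsS.2 _
          · rw [ht s hsS, C.G.xu_zero]; exact one_mem _
        refine ⟨by simpa using mul_mem hsU hm, ?_⟩
        rw [List.map_cons, List.prod_cons, coord_mul C.G hh (by omega) hsU hm, hc]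
        by_cases hsS : S s
        · rw [coord_xu C.G hr hsS.1 (by rw [hrh]; exact hsS.2)]
          by_cases e : s = r
          · subst e; simp [hnd.1]
          · simp [e, Ne.symm e]
        · have hne : s ≠ r := fun e => hsS (e ▸ ⟨hr, hrh.ge⟩)
          rw [ht s hsS, C.G.xu_zero, coord_one]
          simp [Ne.symm hne]
    have := (key ((List.finRange D.nroots).filter fun r => decide (0 ≤ r.val ∧ D.IsPosRoot r.val))
      ((List.nodup_finRange _).filter _) fun s hs => by
      exact (of_decide_eq_true (List.mem_filter.1 hs).2).2).2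
    rw [if_pos (by simp [hr])] at this
    exact this
  refine (Subgroup.closure_mono ?_) (C.uprod_mem_closure (fun r => D.IsPosRoot r.val ∧ h + 1 ≤ hgt C.G r) t
    fun r hr hS' => ?_)
  · rintro x ⟨r, u, ⟨-, hr⟩, rfl⟩; exact ⟨r, u, hr, rfl⟩
  by_cases hrS : S r
  · have : hgt C.G r = h := le_antisymm (by
      by_contra hlt; exact hS' ⟨hr, by omega⟩) hrS.2
    rw [← hcoord r hr this]
    exact h0 r hr this
  · exact ht r hrS

/-- the coordinates of a commutator with a root element of height one -/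
theorem coord_comm (hl : chkLaced D = true) {h : ℤ} (hh : 1 ≤ h) {g : GL D.Idx K}
    (hg : g ∈ (Uh C.G h : Subgroup (GL D.Idx K))) {s : Fin D.nroots} (hs : D.IsPosRoot s.val)
    (hs1 : hgt C.G s = 1) {q : Fin D.nroots} (hq : D.IsPosRoot q.val) (hqh : hgt C.G q = h + 1) :
    (C.G.xu s 1)⁻¹ * g⁻¹ * C.G.xu s 1 * g ∈ (Uh C.G (h + 1) : Subgroup (GL D.Idx K)) ∧
    coord C.G q ((C.G.xu s 1)⁻¹ * g⁻¹ * C.G.xu s 1 * g) =
      ∑ r : Fin D.nroots, if D.IsPosRoot r.val ∧ hgt C.G r = h then
        (ccB D r.val s.val q.val : K) * coord C.G r g else 0 := by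
  classical
  have hy : C.G.xu s (1 : K) ∈ D.posUnipotent K := C.G.xu_mem_U hs 1
  induction hg using Subgroup.closure_induction with
  | one => simp [coord_one]
  | mul a b ha hb iha ihb =>
    obtain ⟨ha1, ha2⟩ := iha
    obtain ⟨hb1, hb2⟩ := ihb
    have e : (C.G.xu s 1)⁻¹ * (a * b)⁻¹ * C.G.xu s 1 * (a * b) = ((C.G.xu s 1)⁻¹ * b⁻¹ * C.G.xu s 1 * b) *
        (b⁻¹ * ((C.G.xu s 1)⁻¹ * a⁻¹ * C.G.xu s 1 * a) * b⁻¹⁻¹) := by group
    have hc := Uh_conj C (inv_mem (Uh_le_U C.G h hb)) ha1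
    rw [e]
    refine ⟨mul_mem hb1 hc, ?_⟩
    rw [coord_mul C.G (by omega) (by omega) hb1 hc, coord_conj C (by omega) hq hqh (inv_mem (Uh_le_U C.G h hb)) ha1,
      ha2, hb2, ← Finset.sum_add_distrib]
    refine Finset.sum_congr rfl fun r _ => ?_
    split_ifs with hr
    · rw [coord_mul C.G hh (by omega) ha hb]; ring
    · rw [add_zero]
  | inv a ha iha =>
    obtain ⟨ha1, ha2⟩ := iha
    have e : (C.G.xu s 1)⁻¹ * a⁻¹⁻¹ * C.G.xu s 1 * a⁻¹ =
        (a * ((C.G.xu s 1)⁻¹ * a⁻¹ * C.G.xu s 1 * a) * a⁻¹)⁻¹ := by group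
    have hc := Uh_conj C (Uh_le_U C.G h ha) ha1
    rw [e]
    refine ⟨inv_mem hc, ?_⟩
    rw [coord_inv C.G (by omega) (by omega) hc, coord_conj C (by omega) hq hqh (Uh_le_U C.G h ha) ha1, ha2,
      ← Finset.sum_neg_distrib]
    refine Finset.sum_congr rfl fun r _ => ?_
    split_ifs with hr
    · rw [coord_inv C.G hh (by omega) ha]; ring
    · rw [neg_zero]
  | mem x hx =>
    obtain ⟨a, t, ⟨hap, hah⟩, rfl⟩ := hx
    have hsum : (∑ r : Fin D.nroots, if D.IsPosRoot r.val ∧ hgt C.G r = h then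
        (ccB D r.val s.val q.val : K) * coord C.G r (C.G.xu a t) else 0) =
        if hgt C.G a = h then (ccB D a.val s.val q.val : K) * t else 0 := by
      rw [Finset.sum_eq_single a]
      · by_cases e : hgt C.G a = h
        · rw [if_pos ⟨hap, e⟩, coord_xu C.G hap hap le_rfl, if_pos rfl, if_pos e]
        · rw [if_neg (fun h' => e h'.2), if_neg e]
      · intro r _ hr
        split_ifs with h'
        · rw [coord_xu C.G h'.1 hap (by omega), if_neg (Ne.symm hr), mul_zero]
        · rfl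
      · simp
    rw [hsum]
    by_cases e : s = a
    · subst e
      rw [C.G.xu_inv, C.G.xu_inv, ← C.G.xu_add, ← C.G.xu_add, ← C.G.xu_add, show -1 + -t + 1 + t = (0 : K) by ring,
        C.G.xu_zero, coord_one]
      refine ⟨one_mem _, ?_⟩
      split_ifs
      · have : D.chainRoot s.val s.val 1 = none := by
          have h := chainEntry_special C.keys s.isLt (Or.inl rfl : s.val = s.val ∨ _)
          simp [ChevalleyDatum.chainRoot, h]
        simp [ccB, this]
      · rfl
    have hsn := C.pos_ne_negr hap hs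
    have hterm : D.commTerms a.val s.val =
        (D.chainRoot a.val s.val 1).toList.map fun x => (x, D.chainM a.val s.val 1, 1, 1) := by
      have h1 := List.all_eq_true.1 (List.all_eq_true.1 hl a.val (List.mem_range.2 a.isLt)) s.val
        (List.mem_range.2 s.isLt)
      simp only [Bool.or_eq_true, beq_iff_eq] at h1
      refine h1.resolve_left fun h1 => h1.elim (fun h2 => e (Fin.ext h2).symm) fun h2 => ?_
      rw [← C.G.negr_val] at h2
      exact (C.pos_ne_negr hs hap) (Fin.ext h2)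
    have hcm := C.commAt a s e hsn t (1 : K)
    unfold CommAt cwR at hcm
    rw [hterm] at hcm
    rcases hc : D.chainRoot a.val s.val 1 with _ | x
    · rw [hc] at hcm
      simp only [Option.toList_none, List.map_nil, wordR_nil, mul_one] at hcm
      have hcm' : C.G.xu s 1 * C.G.xu a t = C.G.xu a t * C.G.xu s 1 := Units.ext hcm
      rw [mul_assoc _ (C.G.xu s 1), hcm', ← mul_assoc, mul_assoc _ (C.G.xu a t)⁻¹, inv_mul_cancel, mul_one,
        inv_mul_cancel, coord_one]
      exact ⟨one_mem _, by simp [ccB, hc]⟩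
    · obtain ⟨hx', ex⟩ := C.chainRoot_spec (r := a) (s := s) le_rfl hc
      have ex' : C.G.rho ⟨x, hx'⟩ = ((1 : ℕ) : ℤ) • C.G.rho a + ((1 : ℕ) : ℤ) • C.G.rho s :=
        ex.trans (by push_cast; module)
      rw [hc] at hcm
      have hcm' : C.G.xu s 1 * C.G.xu a t = C.G.xu a t * C.G.xu s 1 *
          C.G.xu ⟨x, hx'⟩ ((D.chainM a.val s.val 1 : K) * -t) := by
        apply Units.ext
        simp only [Units.val_mul, Good.coe_xu, hcm, Option.toList_some, List.map_cons, List.map_nil, wordR_cons,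
          wordR_nil, pow_one, mul_one, xN, dif_pos hx']
      have hxp : D.IsPosRoot x :=
        (C.rho_combo_index (q := ⟨x, hx'⟩) hap hs le_rfl le_rfl ex').1
      have hxh : hgt C.G ⟨x, hx'⟩ = hgt C.G a + 1 := by
        rw [hgt_combo C.G ex', hs1]
        simp
      rw [mul_assoc _ (C.G.xu s 1), hcm', show (C.G.xu s 1)⁻¹ * (C.G.xu a t)⁻¹ * (C.G.xu a t * C.G.xu s 1 *
        C.G.xu ⟨x, hx'⟩ ((D.chainM a.val s.val 1 : K) * -t)) =
        C.G.xu ⟨x, hx'⟩ ((D.chainM a.val s.val 1 : K) * -t) by group]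
      refine ⟨xu_mem_Uh C.G hxp (by omega) _, ?_⟩
      rw [coord_xu C.G hq hxp (by omega)]
      by_cases exq : x = q.val
      · have hqa : hgt C.G a = h := by
          have : (⟨x, hx'⟩ : Fin D.nroots) = q := Fin.ext exq
          rw [this, hqh] at hxh
          omega
        rw [if_pos (Fin.ext exq), if_pos hqa, ccB, hc, exq, if_pos rfl]
        push_cast
        ring
      · rw [if_neg (fun e => exq (congrArg Fin.val e))]
        split_ifs <;> simp [ccB, hc, exq]

end CfsgLib.Lie.Chev.TwSub
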