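import Cfsg.Agent.Lib.Lie.Chev.Tw.Sub.Parab
import Cfsg.Agent.Lib.Lie.Chev.Tw.Sub.Unip

/-!
# Every element of an overgroup is fixed

An element moves the highest root element to a conjugate, which lies in the positive unipotent subgroup
or commutes with a fixed root element; so the element is a fixed one times one of the parabolic subgroup.
-/

set_option autoImplicit false
set_option linter.unusedSectionVars false

namespace CfsgLib.Lie.Chev.TwSub

open Cfsg.Lie
open scoped MatrixGroups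

variable {D : ChevalleyDatum}

/-- the checks on the pairs with the highest root -/
structure CornerOk (C : Full D) (pf : Fin D.nroots → Fin D.nroots) (ef : Fin D.nroots → Bool)
    (θr θ' α : Fin D.nroots) : Prop where
  top_fix : pf θr = θr ∧ ef θr = false
  sub_pos : D.IsPosRoot θ'.val
  sub_fix : pf θ' = θ' ∧ ef θ' = false
  α_fix : D.IsPosRoot α.val ∧ pf α = α
  only_top : ∀ r : Fin D.nroots, D.IsPosRoot r.val → hgt C.G θ' + 1 ≤ hgt C.G r → r = θr
  others : ∀ s : Fin D.nroots, ¬ D.IsPosRoot s.val → pf s = s → s.val ≠ D.neg θr.val →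
    D.commTerms θr.val s.val = [] ∨ ∃ q : Fin D.nroots, D.IsPosRoot q.val ∧ pf q = q ∧
      (D.chainM θr.val s.val 1).natAbs = 1 ∧
      D.commTerms θr.val s.val = [(q.val, D.chainM θr.val s.val 1, 1, 1)] ∧
      D.commTerms s.val q.val = [] ∧ q.val ≠ D.neg s.val
  corner : (D.chainM θ'.val (D.neg θr.val) 1).natAbs = 1 ∧
    D.commTerms θ'.val (D.neg θr.val) = [(D.neg α.val, D.chainM θ'.val (D.neg θr.val) 1, 1, 1)] ∧
    D.commTerms θ'.val (D.neg α.val) = [] ∧ D.commTerms (D.neg θr.val) (D.neg α.val) = [] ∧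
    D.neg α.val ≠ D.neg θr.val ∧ α ≠ θ' ∧ θ' ≠ θr ∧ α ≠ θr

variable {K : Type*} [Field K] {C : Full D}

/-- the commutator of two root elements with one term -/
theorem comm_single {a b q : Fin D.nroots} (hne : b ≠ a) (hn : b ≠ C.G.negr a) {M : ℤ}
    (ht : D.commTerms a.val b.val = [(q.val, M, 1, 1)]) (t u : K) :
    (C.G.xu b u)⁻¹ * (C.G.xu a t)⁻¹ * C.G.xu b u * C.G.xu a t = C.G.xu q ((M : K) * -t * u) := by
  have hcm := C.commAt a b hne hn t u
  unfold CommAt cwR at hcm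
  rw [ht] at hcm
  have e : C.G.xu b u * C.G.xu a t = C.G.xu a t * C.G.xu b u * C.G.xu q ((M : K) * -t * u) := by
    apply Units.ext
    simp only [Units.val_mul, Good.coe_xu, hcm, List.map_cons, List.map_nil, wordR_cons, wordR_nil, pow_one,
      mul_one, xN, dif_pos q.isLt]
  rw [mul_assoc, e]
  group

variable {T : Twist C.G K} {ι : Type} {O : Orbits C.G T.p ι} {θ : K ≃+* K} {H : Subgroup (GL D.Idx K)}
  {θr θ' α : Fin D.nroots} {J0 : Finset (Fin D.rank)} {pf : Fin D.nroots → Fin D.nroots}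
  {ef : Fin D.nroots → Bool}

theorem all_fixed (S : Setting O θ) (h : TopOk C θr J0) (hco : CornerOk C pf ef θr θ' α)
    (hchk : chkSupp D = true) (hJ : ∀ j ∈ J0, T.node j ∈ J0) (hpf : ∀ r, T.p r = pf r)
    (hef : ∀ r, T.eps r = (sgI (ef r) : K))
    (hclimb : ∀ q : Fin D.nroots, D.IsPosRoot q.val → pf q = q → q ≠ θr → ∃ k, q.val < (O.wO k q).val)
    (hdown : ∃ k, O.wO k α = C.G.negr α)
    (O' : TOver T θ H) (hU : ∀ u ∈ D.posUnipotent K, u ∈ H → fmap D θ.toRingHom u = u)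
    (hP : ∀ p ∈ H, p ∈ C.PJ J0 → fmap D θ.toRingHom p = p) {g : GL D.Idx K} (hg : g ∈ H) :
    fmap D θ.toRingHom g = g := by
  classical
  have hfixel : ∀ r : Fin D.nroots, pf r = r → ef r = false →
      C.G.xu r (1 : K) ∈ T.Fix ∧ fmap D θ.toRingHom (C.G.xu r (1 : K)) = C.G.xu r 1 := fun r h1 h2 =>
    ⟨T.mem_Fix.2 ⟨C.G.xu_mem _ _, by
      rw [T.φ_xu, hpf, h1, hef, h2, map_one]; simp [sgI]⟩, by rw [C.G.fmap_xu, map_one]⟩
  obtain ⟨hzF, hσz⟩ := hfixel θr hco.top_fix.1 hco.top_fix.2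
  have hzH := O'.fix_le _ hzF hσz
  have hgF := O'.le hg
  obtain ⟨w, u, n, p, hw, -, -, huF, hu, hnF, hσn, -, hnw, hpF, hp, rfl⟩ := S.decomp hJ hgF
  have huU := C.G.Uinv_le _ hu
  obtain ⟨c₀, hc₀⟩ := h.conj_PJ (K := K) hp
  obtain ⟨d, hd⟩ := hnw θr
  set s := w θr
  set c : K := (d : K) * ((c₀ : K) * 1)
  have hc : c ≠ 0 := by simp [c]
  set z' := u * n * p * C.G.xu θr (1 : K) * (u * n * p)⁻¹ with hz'
  have ez : z' = u * C.G.xu s c * u⁻¹ := by
    rw [← hd, ← hc₀, hz']; group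
  have hz'H : z' ∈ H := mul_mem (mul_mem hg hzH) (inv_mem hg)
  have hps : pf s = s := by
    rw [← hpf, ← Equiv.Perm.mul_apply, (mem_Wp.1 hw).2, Equiv.Perm.mul_apply, hpf, hco.top_fix.1]
  -- fixed roots come from the highest one
  have hreach : ∀ (m : ℕ) (q : Fin D.nroots), D.nroots - q.val ≤ m → D.IsPosRoot q.val → pf q = q →
      ∃ π ∈ Wp C.G T.p, π θr = q := by
    intro m
    induction m with
    | zero => intro q hm _ _; have := q.isLt; omega
    | succ m ih =>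
      intro q hm hq hfq
      by_cases e : q = θr
      · exact ⟨1, one_mem _, by simp [e]⟩
      obtain ⟨k, hk⟩ := hclimb q hq hfq e
      have hq' : D.IsPosRoot (O.wO k q).val := by
        rw [C.G.pos_iff_half] at hq ⊢
        omega
      have hfq' : pf (O.wO k q) = O.wO k q := by
        rw [← hpf, ← Equiv.Perm.mul_apply, (mem_Wp.1 (O.wO_mem k)).2, Equiv.Perm.mul_apply, hpf, hfq]
      obtain ⟨π, hπ, eπ⟩ := ih (O.wO k q) (by have := (O.wO k q).isLt; omega) hq' hfq'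
      exact ⟨(O.wO k)⁻¹ * π, mul_mem (inv_mem (O.wO_mem k)) hπ, by
        rw [Equiv.Perm.mul_apply, eπ, Equiv.Perm.inv_eq_iff_eq.2 rfl]⟩
  have hconj : ∀ (π : Equiv.Perm (Fin D.nroots)), π ∈ Wp C.G T.p → ∀ e : K, e ≠ 0 →
      ∃ n₀ ∈ T.Fix, ∃ e' : K, e' ≠ 0 ∧ n₀ * C.G.xu θr e' * n₀⁻¹ = C.G.xu (π θr) e := by
    intro π hπ e he
    obtain ⟨n₀, hn₀F, -, -, hn₀⟩ := S.exists_n hπ
    obtain ⟨b, hb⟩ := hn₀ θr
    exact ⟨n₀, hn₀F, ((b⁻¹ : Kˣ) : K) * e, mul_ne_zero (Units.ne_zero _) he, by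
      rw [hb, ← mul_assoc, Units.mul_inv, one_mul]⟩
  -- centralisers of fixed conjugates of root elements
  have hcent : ∀ (π : Equiv.Perm (Fin D.nroots)), π ∈ Wp C.G T.p → ∀ e : K, e ≠ 0 →
      fmap D θ.toRingHom (u * C.G.xu (π θr) e * u⁻¹) = u * C.G.xu (π θr) e * u⁻¹ →
      ∀ x ∈ H, Commute x (u * C.G.xu (π θr) e * u⁻¹) → fmap D θ.toRingHom x = x := by
    intro π hπ e he hfix x hx hcx
    obtain ⟨n₀, hn₀, e', he', en⟩ := hconj π hπ e he
    have eg : u * C.G.xu (π θr) e * u⁻¹ = u * n₀ * C.G.xu θr e' * (u * n₀)⁻¹ := by rw [← en]; group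
    rw [eg] at hfix hcx
    exact cent_fixed S h hchk hJ O' hP (mul_mem huF hn₀) he' hfix hx hcx
  have hcu : ∀ {a b : GL D.Idx K}, Commute a b → Commute (u * a * u⁻¹) (u * b * u⁻¹) := fun {a b} hab => by
    show u * a * u⁻¹ * (u * b * u⁻¹) = u * b * u⁻¹ * (u * a * u⁻¹)
    rw [show u * a * u⁻¹ * (u * b * u⁻¹) = u * (a * b) * u⁻¹ by group, hab.eq]
    group
  have hσz' : fmap D θ.toRingHom z' = z' := by
    by_cases hs : D.IsPosRoot s.val
    · exact hU _ (ez ▸ mul_mem (mul_mem huU (C.G.xu_mem_U hs c)) (inv_mem huU)) hz'H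
    have hsθ : s ≠ θr := fun e => hs (e ▸ h.pos)
    by_cases hs' : s = C.G.negr θr
    · -- the opposite of the highest root
      obtain ⟨hM, ht, hc1, hc2, hne1, hαθ', hθθ', hαθ⟩ := hco.corner
      obtain ⟨hαp, hαf⟩ := hco.α_fix
      set m := C.G.negr α
      have hm : m.val = D.neg α.val := C.G.negr_val α
      have hn : (C.G.negr θr).val = D.neg θr.val := C.G.negr_val θr
      rw [← hn] at ht hc2 hne1 hM
      rw [← hm] at ht hc1 hc2 hne1
      obtain ⟨hdF, hσd0⟩ := hfixel θ' hco.sub_fix.1 hco.sub_fix.2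
      set dd := u * C.G.xu θ' (1 : K) * u⁻¹
      -- `dd` is a product of two fixed root elements
      have htail : (C.G.xu θ' (1 : K))⁻¹ * dd ∈ (Uh C.G (1 + hgt C.G θ') : Subgroup (GL D.Idx K)) :=
        Uh_comm_xu C (U_le_Uh_one C.G huU) hco.sub_pos 1
      obtain ⟨e, he⟩ : ∃ e, (C.G.xu θ' (1 : K))⁻¹ * dd = C.G.xu θr e := by
        have hle : (Uh C.G (1 + hgt C.G θ') : Subgroup (GL D.Idx K)) ≤
            { carrier := {x | ∃ e, x = C.G.xu θr e}
              one_mem' := ⟨0, (C.G.xu_zero _).symm⟩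
              mul_mem' := fun {x y} ⟨a, ha⟩ ⟨b, hb⟩ => ⟨a + b, by rw [ha, hb, C.G.xu_add]⟩
              inv_mem' := fun {x} ⟨a, ha⟩ => ⟨-a, by rw [ha, C.G.xu_inv]⟩ } := by
          rw [Uh, ClP, Subgroup.closure_le]
          rintro x ⟨r, t, ⟨hr, hrh⟩, rfl⟩
          rw [hco.only_top r hr (by omega)]
          exact ⟨t, rfl⟩
        exact hle htail
      have heF : C.G.xu θr e ∈ T.Fix := he ▸ mul_mem (inv_mem hdF) (mul_mem (mul_mem huF hdF) (inv_mem huF))
      have hθe : θ e = e := by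
        have h1 := congrArg Subtype.val (T.mem_Fix.1 heF).2
        rw [T.φ_xu] at h1
        simp only [hpf, hco.top_fix.1, hef, hco.top_fix.2, S.σ_eq] at h1
        simpa [sgI] using C.G.xu_injective _ h1
      have hσd : fmap D θ.toRingHom dd = dd := by
        have : dd = C.G.xu θ' 1 * C.G.xu θr e := by rw [← he, mul_inv_cancel_left]
        rw [this, map_mul, hσd0, C.G.fmap_xu]
        exact congrArg _ (congrArg _ hθe)
      have hddH := O'.fix_le dd (mul_mem (mul_mem huF hdF) (inv_mem huF)) hσd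
      have hθ'neg : C.G.negr θr ≠ θ' := fun e => hs (hs' ▸ e ▸ hco.sub_pos)
      have hθ'neg2 : C.G.negr θr ≠ C.G.negr θ' := fun e => hθθ' (by simpa [C.G.negr_negr] using congrArg C.G.negr e.symm)
      set b : K := (D.chainM θ'.val (C.G.negr θr).val 1 : K) * -1 * c
      have hb : b ≠ 0 := by
        rcases Int.natAbs_eq_iff.1 hM with e | e <;> simp [b, e, hc]
      have ey : z'⁻¹ * dd⁻¹ * z' * dd = u * C.G.xu m b * u⁻¹ := by
        rw [ez, hs', ← comm_single hθ'neg hθ'neg2 ht 1 c]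
        simp only [dd]; group
      have hyH : u * C.G.xu m b * u⁻¹ ∈ H :=
        ey ▸ mul_mem (mul_mem (mul_mem (inv_mem hz'H) (inv_mem hddH)) hz'H) hddH
      have hmneg : ¬ D.IsPosRoot m.val := fun hh => (C.G.negr_pos_iff α).1 hh hαp
      have hσy : fmap D θ.toRingHom (u * C.G.xu m b * u⁻¹) = u * C.G.xu m b * u⁻¹ := by
        obtain ⟨π, hπ, eπ⟩ := hreach D.nroots θ' (by omega) hco.sub_pos hco.sub_fix.1
        refine hcent π hπ 1 one_ne_zero (by rw [eπ]; exact hσd) _ hyH ?_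
        rw [eπ]
        refine (hcu (C.xu_commute (fun e : m = θ' => hmneg (by rw [e]; exact hco.sub_pos)) ?_ hc1 1 b)).symm
        exact fun e => hαθ' (by simpa [m, C.G.negr_negr] using congrArg C.G.negr e)
      obtain ⟨k, hk⟩ := hdown
      obtain ⟨π, hπ, eπ⟩ := hreach D.nroots α (by omega) hαp hαf
      have eπ' : (O.wO k * π) θr = m := by rw [Equiv.Perm.mul_apply, eπ, hk]
      refine hcent _ (mul_mem (O.wO_mem k) hπ) b hb (by rw [eπ']; exact hσy) _ hz'H ?_
      rw [eπ', ez, hs']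
      refine hcu (C.xu_commute (fun e => hne1 (congrArg Fin.val e)) ?_ hc2 c b)
      rw [C.G.negr_negr]
      exact fun e => hmneg (e ▸ h.pos)
    have hsn : s.val ≠ D.neg θr.val := fun e => hs' (Fin.ext (e.trans (C.G.negr_val θr).symm))
    rcases hco.others s hs hps hsn with hnil | ⟨q, hq, hfq, hM, ht, hsq, hqs⟩
    · refine cent_fixed S h hchk hJ O' hP (one_mem _) (e := 1) one_ne_zero (by simpa using hσz) hz'H ?_
      have := hcu (C.xu_commute hsθ hs' hnil (1 : K) c).symm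
      rw [← ez, h.comm_U huU] at this
      simpa using this
    · set b : K := (D.chainM θr.val s.val 1 : K) * -1 * c
      have hb : b ≠ 0 := by
        rcases Int.natAbs_eq_iff.1 hM with e | e <;> simp [b, e, hc]
      have hzu : C.G.xu θr (1 : K) = u * C.G.xu θr 1 * u⁻¹ := (h.comm_U huU 1).symm
      have ey : z'⁻¹ * (C.G.xu θr (1 : K))⁻¹ * z' * C.G.xu θr (1 : K) = u * C.G.xu q b * u⁻¹ := by
        rw [← comm_single hsθ hs' ht 1 c, ez]
        conv_lhs => rw [hzu]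
        group
      have hyH : u * C.G.xu q b * u⁻¹ ∈ H :=
        ey ▸ mul_mem (mul_mem (mul_mem (inv_mem hz'H) (inv_mem hzH)) hz'H) hzH
      have hσy := hU _ (mul_mem (mul_mem huU (C.G.xu_mem_U hq b)) (inv_mem huU)) hyH
      obtain ⟨π, hπ, eπ⟩ := hreach D.nroots q (by omega) hq hfq
      refine hcent π hπ b hb (by rw [eπ]; exact hσy) _ hz'H ?_
      rw [eπ, ez]
      refine hcu (C.xu_commute (fun e : q = s => hs (by rw [← e]; exact hq)) ?_ hsq c b)
      exact fun e => hqs ((congrArg Fin.val e).trans (C.G.negr_val s))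
  obtain ⟨g₀, p', hg₀, hσg₀, -, hp', eg, -⟩ := top_split S h hchk hJ hgF one_ne_zero hσz'
  have hg₀H := O'.fix_le g₀ hg₀ hσg₀
  have hp'H : p' ∈ H := by
    have := mul_mem (inv_mem hg₀H) hg
    rwa [eg, inv_mul_cancel_left] at this
  rw [eg, map_mul, hσg₀, hP p' hp'H hp']

end CfsgLib.Lie.Chev.TwSub
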