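import Cfsg.Agent.Lib.Lie.Chev.Tw.Sub.Height
import Cfsg.Agent.Lib.Lie.Chev.Tw.Gen
import Cfsg.Agent.Lib.Lie.Chev.StCosets
import Cfsg.Agent.Lib.Lie.Chev.Gen

/-!
# A twisted group and its elements over the fixed field

The field map commutes with the twist, every element of the centraliser of the diagram permutation
in the Weyl group has a representative fixed by both, and a fixed element factors along a parabolic
subgroup stable under the twist.
-/

set_option autoImplicit false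
set_option linter.unusedSectionVars false

namespace CfsgLib.Lie.Chev.TwSub

open Cfsg.Lie
open scoped MatrixGroups

variable {D : ChevalleyDatum} {K : Type*} [Field K] {C : Full D} {T : Twist C.G K} {ι : Type}

/-- a twist by one field automorphism, with the fixed representatives of the orbit elements -/
structure Setting (O : Orbits C.G T.p ι) (θ : K ≃+* K) : Prop where
  σ_eq : ∀ r x, T.σ r x = θ x
  eps_unit : ∀ r, T.eps r = 1 ∨ T.eps r = -1
  fold_fix : ∀ k, C.G.nw (O.wl k) ∈ T.Fix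
  hgt_p : ∀ r : Fin D.nroots, hgt C.G (T.p r) = hgt C.G r

/-- a subgroup of the twisted group containing all its elements over the fixed field -/
structure TOver (T : Twist C.G K) (θ : K ≃+* K) (H : Subgroup (GL D.Idx K)) : Prop where
  le : H ≤ T.Fix
  fix_le : ∀ g ∈ T.Fix, fmap D θ.toRingHom g = g → g ∈ H

variable {O : Orbits C.G T.p ι} {θ : K ≃+* K} (S : Setting O θ)

include S

theorem Setting.φ_fmap {g : GL D.Idx K} (hg : g ∈ D.group K) :
    (T.φ ⟨fmap D θ.toRingHom g, C.G.fmap_mem_group _ hg⟩ : GL D.Idx K) =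
      fmap D θ.toRingHom (T.φ ⟨g, hg⟩ : GL D.Idx K) := by
  let σg : ↥(D.group K) →* ↥(D.group K) :=
    ((fmap D θ.toRingHom).comp (D.group K).subtype).codRestrict _ fun x => C.G.fmap_mem_group _ x.2
  suffices h : T.φ.comp σg = σg.comp T.φ from congrArg Subtype.val (DFunLike.congr_fun h ⟨g, hg⟩)
  have key : ∀ (r : Fin D.nroots) (t : K), σg ⟨C.G.xu r t, C.G.xu_mem r t⟩ = ⟨C.G.xu r (θ t), C.G.xu_mem _ _⟩ :=
    fun r t => Subtype.ext (C.G.fmap_xu _ r t)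
  refine C.G.hom_ext_simple (fun i t => ?_) (fun i t => ?_) <;>
  · simp only [MonoidHom.comp_apply, key, T.φ_xu, S.σ_eq]
    refine Subtype.ext ?_
    simp only [map_mul, T.eps_simp, T.eps_negr, map_one]

theorem Setting.fmap_fix {g : GL D.Idx K} (hg : g ∈ T.Fix) : fmap D θ.toRingHom g ∈ T.Fix := by
  have h := T.Fix_le hg
  exact T.mem_Fix.2 ⟨C.G.fmap_mem_group _ h, Subtype.ext (by rw [S.φ_fmap h, T.fix_eq hg h])⟩

theorem Setting.exists_n {π : Equiv.Perm (Fin D.nroots)} (hπ : π ∈ Wp C.G T.p) :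
    ∃ n, n ∈ T.Fix ∧ fmap D θ.toRingHom n = n ∧ n ∈ D.monomialSubgroup K ∧ C.G.NPerm n π := by
  refine O.induction_on (P := fun π => ∃ n, n ∈ T.Fix ∧ fmap D θ.toRingHom n = n ∧
    n ∈ D.monomialSubgroup K ∧ C.G.NPerm n π) hπ
    ⟨1, one_mem _, map_one _, one_mem _, Good.NPerm.one C.G⟩ ?_
  rintro π' - k - - ⟨n, hn, hσ, hN, hnπ⟩
  exact ⟨n * C.G.nw (O.wl k), mul_mem hn (S.fold_fix k), by rw [map_mul, hσ, C.G.fmap_nw],
    mul_mem hN (C.G.nw_mem_monomial _), Good.NPerm.mul C.G hnπ (C.G.nPerm_nw _)⟩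

omit S in
theorem p_sP (T : Twist C.G K) (i : Fin D.rank) : T.p * C.G.sP i * T.p⁻¹ = C.G.sP (T.node i) := by
  have h1 : ∀ j, C.G.NPerm (C.G.nU j : GL D.Idx K) (C.G.sP j) := fun j => C.G.nPerm_nU j
  have hN : (C.G.nU i : GL D.Idx K) ∈ D.monomialSubgroup K := by
    simpa [Good.nw] using C.G.nw_mem_monomial (K := K) [i]
  have h2 := T.nPerm_φ hN (h1 i) (C.G.nU_mem_group i)
  rw [T.φ_nU] at h2
  exact Good.NPerm.unique C.G h2 (h1 _)

omit S in
theorem p_WJ (T : Twist C.G K) {J : Finset (Fin D.rank)} (hJ : ∀ j ∈ J, T.node j ∈ J)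
    {a : Equiv.Perm (Fin D.nroots)} (ha : a ∈ WJ C.G J) : T.p * a * T.p⁻¹ ∈ WJ C.G J := by
  have hle : WJ C.G J ≤ (WJ C.G J).comap (MulAut.conj T.p).toMonoidHom := by
    refine (Subgroup.closure_le _).2 ?_
    rintro _ ⟨i, hi, rfl⟩
    show T.p * C.G.sP i * T.p⁻¹ ∈ WJ C.G J
    rw [p_sP]
    exact C.G.sP_mem_WJ (hJ i hi)
  exact hle ha

/-- the factorisation of a fixed element along a stable parabolic subgroup -/
theorem Setting.decomp {J : Finset (Fin D.rank)} (hJ : ∀ j ∈ J, T.node j ∈ J) {g : GL D.Idx K}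
    (hg : g ∈ T.Fix) :
    ∃ (w : Equiv.Perm (Fin D.nroots)) (u n p : GL D.Idx K), w ∈ Wp C.G T.p ∧ Up C.G J w ∧
      (∀ L : Finset (Fin D.rank), J ⊆ L → g ∈ C.PJ L → w ∈ WJ C.G L) ∧
      u ∈ T.Fix ∧ u ∈ (Uinv C.G w⁻¹ : Subgroup (GL D.Idx K)) ∧
      n ∈ T.Fix ∧ fmap D θ.toRingHom n = n ∧ n ∈ D.monomialSubgroup K ∧ C.G.NPerm n w ∧
      p ∈ T.Fix ∧ p ∈ C.PJ J ∧ g = u * n * p := by
  classical
  obtain ⟨v, m, u', π, ⟨hvF, hv⟩, ⟨hmF, hm⟩, hπ, hmπ, ⟨huF, hu'⟩, e⟩ := T.fix_bruhat hg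
  obtain ⟨w, a, hwa, ha, hwW, hwu⟩ := C.G.exists_up_decomp J (mem_Wp.1 hπ).1
  -- the minimal representative commutes with the permutation
  have hnode : ∀ j ∈ J, ∃ i ∈ J, T.node i = j := by
    intro j hj
    have himg : J.image T.node = J := Finset.eq_of_subset_of_card_le
      (fun x hx => by obtain ⟨i, hi, rfl⟩ := Finset.mem_image.1 hx; exact hJ i hi)
      (le_of_eq (Finset.card_image_of_injective _ T.node.injective).symm)
    rw [← himg] at hj
    obtain ⟨i, hi, rfl⟩ := Finset.mem_image.1 hj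
    exact ⟨i, hi, rfl⟩
  have hwp : T.p * w * T.p⁻¹ = w := by
    have hw'u : Up C.G J (T.p * w * T.p⁻¹) := by
      intro j hj
      obtain ⟨i, hi, rfl⟩ := hnode j hj
      rw [← T.p_simp, Equiv.Perm.mul_apply, Equiv.Perm.mul_apply,
        show T.p⁻¹ (T.p (C.G.simp' i)) = C.G.simp' i from T.p.symm_apply_apply _, T.p_pos]
      exact hwu i hi
    have hw'W := T.p_conj_mem hwW
    have ha' := p_WJ T hJ ha
    have e1 : T.p * π * T.p⁻¹ = π := Twist.conj_eq_of_mem_Wp hπ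
    have e2 : w = (T.p * w * T.p⁻¹) * ((T.p * a * T.p⁻¹) * a⁻¹) := by
      rw [← mul_assoc, show T.p * w * T.p⁻¹ * (T.p * a * T.p⁻¹) = T.p * (w * a) * T.p⁻¹ by group, ← hwa, e1,
        hwa, mul_inv_cancel_right]
    have e3 := C.G.eq_one_of_up_mul hw'W hw'u (mul_mem ha' (inv_mem ha)) (e2 ▸ hwu)
    rw [e3, mul_one] at e2
    exact e2.symm
  have hwWp : w ∈ Wp C.G T.p := mem_Wp.2 ⟨hwW, (mul_inv_eq_iff_eq_mul.1 hwp)⟩
  obtain ⟨n, hnF, hσn, hnN, hnw⟩ := S.exists_n hwWp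
  -- split the unipotent factor
  obtain ⟨x, hx, y, hy, exy⟩ := C.exists_keep_mul_inv w⁻¹ (inv_mem hv)
  obtain ⟨hxF, hyF⟩ := T.fix_split (inv_mem hwWp) hx hy (exy ▸ inv_mem hvF)
  set p := n⁻¹ * x⁻¹ * n * (n⁻¹ * m) * u'
  have hp1 : n⁻¹ * x⁻¹ * n ∈ C.PJ J :=
    C.borel_le_PJ J (Subgroup.mem_sup_left (C.conj_keep_U hnw (inv_mem hx)))
  have hp2 : n⁻¹ * m ∈ C.PJ J := by
    refine C.mem_PJ_of_cell ha ⟨1, one_mem _, _, mul_mem (inv_mem hnN) hm, ?_, 1, one_mem _, by rw [one_mul, mul_one]⟩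
    have := Good.NPerm.mul C.G (Good.NPerm.inv C.G hnw) hmπ
    rwa [hwa, inv_mul_cancel_left] at this
  refine ⟨w, y⁻¹, n, p, hwWp, hwu, fun L hJL hL => ?_, inv_mem hyF, inv_mem hy, hnF, hσn, hnN, hnw,
    mul_mem (mul_mem (mul_mem (mul_mem (inv_mem hnF) (inv_mem hxF)) hnF) (mul_mem (inv_mem hnF) hmF)) huF,
    mul_mem (mul_mem hp1 hp2) (C.borel_le_PJ J (Subgroup.mem_sup_left (C.G.Uinv_le _ hu'))), ?_⟩
  · obtain ⟨b, hb, hcell⟩ := C.cell_of_mem_PJ hL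
    have hπb : π = b := C.inCell_unique ⟨v, Subgroup.mem_sup_left hv, m, hm, hmπ, u',
      Subgroup.mem_sup_left (C.G.Uinv_le _ hu'), e⟩ hcell
    rw [show w = π * a⁻¹ by rw [hwa, mul_inv_cancel_right]]
    exact mul_mem (hπb ▸ hb) (inv_mem (C.G.WJ_mono hJL ha))
  · have ev : v = y⁻¹ * x⁻¹ := by rw [← mul_inv_rev, ← exy, inv_inv]
    rw [e, ev]
    simp only [p]
    group

end CfsgLib.Lie.Chev.TwSub
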